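import Groth.Agent.H15Site.HyperBuild.Diag

/-!
# Construction of hypercoverings with prescribed objects over a locally fillable simplicial presheaf
-/

set_option autoImplicit false
set_option linter.style.haveILetI false
set_option linter.unusedSectionVars false
set_option backward.isDefEq.respectTransparency false

universe u

open CategoryTheory CategoryTheory.Limits Opposite SimplexCategory
open scoped Simplicial

namespace Groth.Agent.H15Site.HyperBuild

open HyperFill HyperSite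
open scoped Classical

variable {D : Type u} [SmallCategory D] {J : GrothendieckTopology D}

section Desc

variable {F G : FormalCoproduct.{u} D}

lemma hom_ext_pts (a b : F ⟶ G)
    (h : ∀ i : F.I, FormalCoproduct.Hom.fromIncl i (𝟙 (F.obj i)) ≫ a =
      FormalCoproduct.Hom.fromIncl i (𝟙 (F.obj i)) ≫ b) : a = b := by
  refine (FormalCoproduct.hom_ext_iff' a b).2 fun i => ?_
  obtain ⟨h1, h2⟩ := (FormalCoproduct.hom_ext_iff' _ _).1 (h i) PUnit.unit
  refine ⟨h1, ?_⟩
  have h3 : (𝟙 (F.obj i) ≫ a.φ i) ≫ eqToHom _ = 𝟙 (F.obj i) ≫ b.φ i := h2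
  rw [Category.assoc, Category.id_comp] at h3
  exact h3.trans (Category.id_comp _)

/-- A morphism of semi-representable objects from a natural transformation. -/
def homDesc (τ : (homP D).obj F ⟶ (homP D).obj G) : F ⟶ G where
  f i := (τ.app (op (F.obj i)) (FormalCoproduct.Hom.fromIncl i (𝟙 (F.obj i)))).f PUnit.unit
  φ i := (τ.app (op (F.obj i)) (FormalCoproduct.Hom.fromIncl i (𝟙 (F.obj i)))).φ PUnit.unit

lemma fromIncl_homDesc (τ : (homP D).obj F ⟶ (homP D).obj G) (i : F.I) :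
    FormalCoproduct.Hom.fromIncl i (𝟙 (F.obj i)) ≫ homDesc τ =
      τ.app (op (F.obj i)) (FormalCoproduct.Hom.fromIncl i (𝟙 (F.obj i))) :=
  homP_hom_ext _ _ (Sigma.ext rfl (heq_of_eq (Category.id_comp _)))

lemma comp_homDesc (τ : (homP D).obj F ⟶ (homP D).obj G) {U : D}
    (x : (FormalCoproduct.incl D).obj U ⟶ F) : x ≫ homDesc τ = τ.app (op U) x := by
  have e : x = (FormalCoproduct.incl D).map (x.φ PUnit.unit) ≫
      FormalCoproduct.Hom.fromIncl (x.f PUnit.unit) (𝟙 _) :=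
    homP_hom_ext _ _ (Sigma.ext rfl (heq_of_eq (Category.comp_id _).symm))
  conv_lhs => rw [e, Category.assoc, fromIncl_homDesc]
  conv_rhs => rw [e]
  exact (ConcreteCategory.congr_hom (τ.naturality (x.φ PUnit.unit).op)
    (FormalCoproduct.Hom.fromIncl (x.f PUnit.unit) (𝟙 _))).symm

/-- A morphism of simplicial semi-representable objects from a map of simplicial presheaves. -/
def sDesc {L K : SimplicialObject (FormalCoproduct.{u} D)} (τ : XK L ⟶ XK K) : L ⟶ K where
  app Δ := homDesc (τ.app Δ)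
  naturality Δ Δ' g := hom_ext_pts _ _ fun i => by
    rw [← Category.assoc, ← Category.assoc, comp_homDesc, fromIncl_homDesc]
    exact ConcreteCategory.congr_hom (congr_app (τ.naturality g) (op _))
      (FormalCoproduct.Hom.fromIncl i (𝟙 _))

lemma comp_sDesc {L K : SimplicialObject (FormalCoproduct.{u} D)} (τ : XK L ⟶ XK K)
    {Δ : SimplexCategoryᵒᵖ} {U : D} (x : (FormalCoproduct.incl D).obj U ⟶ L.obj Δ) :
    x ≫ (sDesc τ).app Δ = (τ.app Δ).app (op U) x :=
  comp_homDesc (τ.app Δ) x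

end Desc

variable (P : SimplicialObject (Dᵒᵖ ⥤ Type u)) (B : Set D)

/-- A set of diagrams stable under the simplicial operators. -/
structure Sub where
  /-- The diagrams. -/
  S : ∀ m : SimplexCategory, Diag P B m → Prop
  closed : ∀ {m m' : SimplexCategory} (g : m' ⟶ m) (d : Diag P B m), S m d → S m' (d.map g)

/-- All diagrams. -/
def Sub.full : Sub P B := ⟨fun _ _ => True, fun _ _ _ => trivial⟩

variable {P B} (S : Sub P B)

/-- The simplicial semi-representable object of diagrams. -/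
def L : SimplicialObject (FormalCoproduct.{u} D) where
  obj Δ := ⟨{d : Diag P B Δ.unop // S.S Δ.unop d}, fun d => d.1.top⟩
  map g := ⟨fun d => ⟨d.1.map g.unop, S.closed g.unop d.1 d.2⟩, fun d => d.1.hom g.unop (𝟙 _)⟩
  map_id Δ := by
    refine FormalCoproduct.hom_ext (funext fun d => Subtype.ext (Diag.map_id d.1)) fun d => ?_
    change d.1.hom (𝟙 _) (𝟙 _) ≫ eqToHom _ = _
    rw [Diag.hom_id, eqToHom_trans]
    rfl
  map_comp g g' := by
    refine FormalCoproduct.hom_ext rfl fun d => ?_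
    exact ((Category.comp_id _).trans (d.1.hom_comp g.unop g'.unop (𝟙 _)).symm)

lemma L_obj_mem (Δ : SimplexCategoryᵒᵖ) (i : ((L S).obj Δ).I) : ((L S).obj Δ).obj i ∈ B :=
  i.1.mem (𝟙 _)

/-- The element of a section. -/
def toEl {Δ : SimplexCategoryᵒᵖ} {U : D} (x : (FormalCoproduct.incl D).obj U ⟶ (L S).obj Δ) :
    El P B Δ.unop U :=
  ⟨(x.f PUnit.unit).1, x.φ PUnit.unit⟩

/-- The section of an element. -/
def ofEl {m : SimplexCategory} {U : D} (x : El P B m U) (h : S.S m x.1) :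
    (FormalCoproduct.incl D).obj U ⟶ (L S).obj (op m) :=
  FormalCoproduct.Hom.fromIncl (Y := (L S).obj (op m)) ⟨x.1, h⟩ x.2

lemma toEl_map {Δ Δ' : SimplexCategoryᵒᵖ} (g : Δ ⟶ Δ') {U : D}
    (x : (FormalCoproduct.incl D).obj U ⟶ (L S).obj Δ) :
    toEl S (x ≫ (L S).map g) = (toEl S x).map g.unop := rfl

lemma toEl_comp {Δ : SimplexCategoryᵒᵖ} {U V : D} (v : V ⟶ U)
    (x : (FormalCoproduct.incl D).obj U ⟶ (L S).obj Δ) :
    toEl S ((FormalCoproduct.incl D).map v ≫ x) = (toEl S x).res v := rfl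

lemma toEl_injective {Δ : SimplexCategoryᵒᵖ} {U : D}
    {x y : (FormalCoproduct.incl D).obj U ⟶ (L S).obj Δ} (h : toEl S x = toEl S y) : x = y := by
  refine homP_hom_ext _ _ ?_
  have aux : ∀ (a b : ((L S).obj Δ).I) (p : U ⟶ ((L S).obj Δ).obj a) (q : U ⟶ ((L S).obj Δ).obj b),
      (⟨a.1, p⟩ : El P B Δ.unop U) = ⟨b.1, q⟩ →
        (⟨a, p⟩ : Σ j : ((L S).obj Δ).I, U ⟶ ((L S).obj Δ).obj j) = ⟨b, q⟩ := by
    rintro ⟨a, ha⟩ ⟨b, hb⟩ p q he
    cases he
    rfl
  exact aux _ _ _ _ h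

/-- The map to the base simplicial presheaf. -/
def proj : XK (L S) ⟶ P where
  app Δ :=
    { app := fun U => TypeCat.ofHom fun x => (toEl S x).val
      naturality := fun U V v => by
        ext x
        exact (toEl S x).val_res v.unop }
  naturality Δ Δ' g := by
    ext U x
    exact (toEl S x).val_map g.unop

lemma proj_apply {Δ : SimplexCategoryᵒᵖ} {U : D} (x : (FormalCoproduct.incl D).obj U ⟶ (L S).obj Δ) :
    ((proj S).app Δ).app (op U) x = (toEl S x).val := rfl

/-- Spheres of elements with a filler in `P` extend over objects of `B`. -/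
theorem exists_el {n : ℕ} {W : D} (hW : W ∈ B) (x : Fin (n + 2) → El P B ⦋n⦌ W)
    (hx : ∀ (m : SimplexCategory) (ψ ψ' : m ⟶ ⦋n⦌) (i j : Fin (n + 2)),
      ψ ≫ δ i = ψ' ≫ δ j → (x i).map ψ = (x j).map ψ')
    (e : sx P (n + 1) W) (he : ∀ i, dd i e = (x i).val) :
    ∃ E : El P B ⦋n + 1⦌ W, ∀ i, E.map (δ i) = x i := by
  let z : ∀ (k : SimplexCategory) (θ : k ⟶ ⦋n + 1⦌), ¬ Function.Surjective θ.toOrderHom → El P B k W :=
    fun k θ h => (x (eq_comp_δ_of_not_surjective θ h).choose).map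
      (eq_comp_δ_of_not_surjective θ h).choose_spec.choose
  have hzi : ∀ (k : SimplexCategory) (θ : k ⟶ ⦋n + 1⦌) (h) (i : Fin (n + 2)) (ψ : k ⟶ ⦋n⦌),
      θ = ψ ≫ δ i → z k θ h = (x i).map ψ := fun k θ h i ψ e =>
    hx k _ ψ _ i ((eq_comp_δ_of_not_surjective θ h).choose_spec.choose_spec.symm.trans e)
  refine ⟨glueEl hW z (fun k l g θ h h' => ?_) e (fun k θ h => ?_), fun i => ?_⟩
  · obtain ⟨i, ψ, rfl⟩ := eq_comp_δ_of_not_surjective θ h
    rw [hzi k _ h i ψ rfl, hzi l _ h' i (g ≫ ψ) (Category.assoc _ _ _).symm, El.map_map]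
  · obtain ⟨i, ψ, rfl⟩ := eq_comp_δ_of_not_surjective θ h
    rw [hzi k _ h i ψ rfl, El.val_map, ← he i, op_comp, Functor.map_comp]
    rfl
  · have hδ : ¬ Function.Surjective (δ i : ⦋n⦌ ⟶ ⦋n + 1⦌).toOrderHom := fun hs => by
      have := Fintype.card_le_of_surjective _ hs
      simp only [Fintype.card_fin, SimplexCategory.len_mk] at this
      omega
    rw [glueEl_map _ _ _ _ _ _ hδ, hzi _ _ hδ i (𝟙 _) (Category.id_comp _).symm, El.map_id]

/-- Vertices over objects of `B`. -/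
theorem exists_el_zero {W : D} (hW : W ∈ B) (e : sx P 0 W) : Nonempty (El P B ⦋0⦌ W) := by
  have hs : ∀ (k : SimplexCategory) (θ : k ⟶ ⦋0⦌), Function.Surjective θ.toOrderHom :=
    fun k θ b => ⟨0, Subsingleton.elim (α := Fin 1) _ _⟩
  exact ⟨glueEl hW (fun k θ h => absurd (hs k θ) h) (fun k l g θ h => absurd (hs k θ) h) e
    (fun k θ h => absurd (hs k θ) h)⟩

variable (J P B)

/-- The full simplicial object of diagrams is locally fillable. -/
theorem fill_full (hP : Fill J P)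
    (hB : ∀ U : D, ∃ R ∈ J U, ∀ ⦃V : D⦄ (v : V ⟶ U), R v →
      ∃ (W : D) (_ : W ∈ B) (a : V ⟶ W) (b : W ⟶ U), a ≫ b = v) :
    Fill J (XK (L (Sub.full P B))) where
  nonempty U := by
    obtain ⟨R, hR, hR'⟩ := hP.nonempty U
    have key : ∀ ⦃V : D⦄ (v : V ⟶ U), R v → ∃ T ∈ J V, ∀ ⦃V' : D⦄ (w : V' ⟶ V), T w →
        Nonempty (sx (XK (L (Sub.full P B))) 0 V') := by
      intro V v hv
      obtain ⟨T, hT, hT'⟩ := hB V
      refine ⟨T, hT, fun V' w hw => ?_⟩
      obtain ⟨W, hW, a, b, -⟩ := hT' w hw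
      obtain ⟨e⟩ := hR' v hv
      obtain ⟨E⟩ := exists_el_zero hW (rs b e)
      exact ⟨ofEl _ (E.res a) trivial⟩
    choose T hT hT' using key
    refine ⟨Sieve.bind R.arrows fun _ v hv => T v hv, J.bind_covering hR fun V v hv => hT v hv,
      fun V' x hx => ?_⟩
    obtain ⟨V, w, v, hv, hw, rfl⟩ := hx
    exact hT' v hv w hw
  fill n U x hx := by
    let π := proj (Sub.full P B)
    have hPx : Compat P (fun i => (π.app _).app (op U) (x i)) := fun m hm ψ ψ' i j h =>
      (ConcreteCategory.congr_hom (congr_app (π.naturality ψ.op) (op U)) (x i)).symm.trans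
        ((congrArg ((π.app (op ⦋m⦌)).app (op U)) (hx m hm ψ ψ' i j h)).trans
          (ConcreteCategory.congr_hom (congr_app (π.naturality ψ'.op) (op U)) (x j)))
    obtain ⟨R, hR, hR'⟩ := hP.fill n U _ hPx
    have key : ∀ ⦃V : D⦄ (v : V ⟶ U), R v → ∃ T ∈ J V, ∀ ⦃V' : D⦄ (w : V' ⟶ V), T w →
        ∃ y : sx (XK (L (Sub.full P B))) (n + 1) V', ∀ i, dd i y = rs (w ≫ v) (x i) := by
      intro V v hv
      obtain ⟨T, hT, hT'⟩ := hB V
      refine ⟨T, hT, fun V' w hw => ?_⟩
      obtain ⟨W, hW, a, b, hab⟩ := hT' w hw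
      obtain ⟨e, he⟩ := hR' v hv
      have hcompat : ∀ (m : SimplexCategory) (ψ ψ' : m ⟶ ⦋n⦌) (i j : Fin (n + 2)), ψ ≫ δ i = ψ' ≫ δ j →
          (toEl (Sub.full P B) (rs (b ≫ v) (x i))).map ψ =
            (toEl (Sub.full P B) (rs (b ≫ v) (x j))).map ψ' := by
        intro m ψ ψ' i j h
        induction m using SimplexCategory.rec with | _ m
        exact congrArg (toEl _) ((sm_rs (X := XK (L (Sub.full P B))) ψ (b ≫ v) (x i)).trans
          ((congrArg (rs (b ≫ v)) (Compat.all hx ψ ψ' i j h)).trans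
            (sm_rs (X := XK (L (Sub.full P B))) ψ' (b ≫ v) (x j)).symm))
      have hval : ∀ i, dd i (rs b e) = (toEl (Sub.full P B) (rs (b ≫ v) (x i))).val := by
        intro i
        rw [dd_rs, he i, rs_rs]
        exact (ConcreteCategory.congr_hom ((π.app (op ⦋n⦌)).naturality (b ≫ v).op) (x i)).symm
      obtain ⟨E, hE⟩ := exists_el hW _ hcompat (rs b e) hval
      refine ⟨ofEl _ (E.res a) trivial, fun i => toEl_injective _ ?_⟩
      rw [← hab, Category.assoc, ← rs_rs (X := XK (L (Sub.full P B))) (b ≫ v) a]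
      refine Eq.trans ?_ (toEl_comp (Sub.full P B) a (rs (b ≫ v) (x i))).symm
      change (E.res a).map (δ i) = _
      rw [← hE i]
      exact Sigma.ext rfl (heq_of_eq (Category.assoc _ _ _))
    choose T hT hT' using key
    refine ⟨Sieve.bind R.arrows fun _ v hv => T v hv, J.bind_covering hR fun V v hv => hT v hv,
      fun V' y hy => ?_⟩
    obtain ⟨V, w, v, hv, hw, rfl⟩ := hy
    exact hT' v hv w hw

end Groth.Agent.H15Site.HyperBuild
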