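import Groth.Agent.H15Site.HyperBuild.Die
import Groth.Agent.H15Site.HyperOver

/-!
# Degree zero Čech cohomology of a hypercovering: restriction
-/

set_option autoImplicit false
set_option linter.style.haveILetI false
set_option linter.unusedSectionVars false
set_option backward.isDefEq.respectTransparency false

universe u

open CategoryTheory CategoryTheory.Limits Opposite
open scoped Simplicial

namespace Groth.Agent.H15Site.HyperBuild

open HyperFill HyperSite

variable {C : Type u} [SmallCategory C] {X : C} (K : SimplicialObject (FormalCoproduct.{u} (Over X)))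
  (P : Cᵒᵖ ⥤ AddCommGrpCat.{u})

/-- Restriction of sections over `X` to the terms of a simplicial semi-representable object. -/
noncomputable def augP (n : ℕ) : P.obj (op X) ⟶ (Hyper.cechCx X K P).X n :=
  Pi.lift fun i : (K.obj (op ⦋n⦌)).I => P.map ((K.obj (op ⦋n⦌)).obj i).hom.op

lemma augP_π (n : ℕ) (i : (K.obj (op ⦋n⦌)).I) :
    augP K P n ≫ Pi.π (fun i => P.obj (op ((K.obj (op ⦋n⦌)).obj i).left)) i =
      P.map ((K.obj (op ⦋n⦌)).obj i).hom.op :=
  Pi.lift_π (f := fun i => P.obj (op ((K.obj (op ⦋n⦌)).obj i).left))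
    (fun i : (K.obj (op ⦋n⦌)).I => P.map ((K.obj (op ⦋n⦌)).obj i).hom.op) i

/-- The values of the presheaf on the terms. -/
noncomputable abbrev cosim : CosimplicialObject AddCommGrpCat.{u} :=
  K.rightOp ⋙ (FormalCoproduct.evalOp.{u} (Over X) AddCommGrpCat.{u}).obj ((Over.forget X).op ⋙ P)

lemma cosim_δ_π {n : ℕ} (j : Fin (n + 2)) (i : (K.obj (op ⦋n + 1⦌)).I) :
    (cosim K P).δ j ≫ Pi.π (fun i => P.obj (op ((K.obj (op ⦋n + 1⦌)).obj i).left)) i =
      Pi.π (fun i => P.obj (op ((K.obj (op ⦋n⦌)).obj i).left)) ((K.δ j).f i) ≫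
        P.map ((K.δ j).φ i).left.op :=
  limit.lift_π _ (Discrete.mk i)

lemma augP_δ {n : ℕ} (j : Fin (n + 2)) : augP K P n ≫ (cosim K P).δ j = augP K P (n + 1) := by
  refine Pi.hom_ext (f := fun i : (K.obj (op ⦋n + 1⦌)).I => P.obj (op ((K.obj (op ⦋n + 1⦌)).obj i).left)) _ _
    fun i => ?_
  refine (Category.assoc _ _ _).trans ((congrArg (augP K P n ≫ ·) (cosim_δ_π K P j i)).trans ?_)
  refine (Category.assoc _ _ _).symm.trans ((congrArg (· ≫ P.map ((K.δ j).φ i).left.op) (augP_π K P n _)).trans ?_)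
  refine Eq.trans ?_ (augP_π K P (n + 1) i).symm
  exact (P.map_comp _ _).symm.trans (congrArg P.map (congrArg Quiver.Hom.op (Over.w ((K.δ j).φ i))))

lemma d_zero_one : (Hyper.cechCx X K P).d 0 1 = (cosim K P).δ 0 - (cosim K P).δ 1 := by
  refine (HyperCech.altCoface_d (cosim K P) 0).trans ?_
  simp [AlgebraicTopology.AlternatingCofaceMapComplex.objD, Fin.sum_univ_two, sub_eq_add_neg]

lemma augP_d : augP K P 0 ≫ (Hyper.cechCx X K P).d 0 1 = 0 := by
  rw [d_zero_one, Preadditive.comp_sub]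
  exact sub_eq_zero.2 ((augP_δ K P 0).trans (augP_δ K P 1).symm)

/-- Restriction to degree zero Čech cohomology. -/
noncomputable def resH : P.obj (op X) →+ Hyper.cechH X K P 0 :=
  ((Hyper.cechCx X K P).liftCycles (augP K P 0) 1 (by simp) (augP_d K P) ≫
    (Hyper.cechCx X K P).homologyπ 0).hom

lemma iCycles_lift (x : P.obj (op X)) :
    (Hyper.cechCx X K P).iCycles 0 ((Hyper.cechCx X K P).liftCycles (augP K P 0) 1 (by simp) (augP_d K P) x) =
      augP K P 0 x :=
  ConcreteCategory.congr_hom ((Hyper.cechCx X K P).liftCycles_i (augP K P 0) 1 (by simp) (augP_d K P)) x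

lemma homologyπ_zero_injective : Function.Injective ((Hyper.cechCx X K P).homologyπ 0) :=
  ((ConcreteCategory.isIso_iff_bijective _).1 inferInstance).1

lemma iCycles_injective : Function.Injective ((Hyper.cechCx X K P).iCycles 0) :=
  (AddCommGrpCat.mono_iff_injective _).1 inferInstance

lemma resH_eq_zero {x : P.obj (op X)} (h : resH K P x = 0) (i : (K.obj (op ⦋0⦌)).I) :
    P.map ((K.obj (op ⦋0⦌)).obj i).hom.op x = 0 := by
  have h1 : (Hyper.cechCx X K P).liftCycles (augP K P 0) 1 (by simp) (augP_d K P) x = 0 :=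
    homologyπ_zero_injective K P (h.trans (map_zero _).symm)
  have h2 : augP K P 0 x = 0 :=
    (iCycles_lift K P x).symm.trans ((congrArg ((Hyper.cechCx X K P).iCycles 0) h1).trans (map_zero _))
  exact (ConcreteCategory.congr_hom (augP_π K P 0 i) x).symm.trans
    ((congrArg (Pi.π (fun i => P.obj (op ((K.obj (op ⦋0⦌)).obj i).left)) i) h2).trans (map_zero _))

variable {K P}

theorem cechHMap_resH {L : SimplicialObject (FormalCoproduct.{u} (Over X))} (f : L ⟶ K) (x : P.obj (op X)) :
    Hyper.cechHMap X f P 0 (resH K P x) = resH L P x := by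
  refine (ConcreteCategory.congr_hom (HomologicalComplex.homologyπ_naturality (Hyper.cechMap X f P) 0)
    ((Hyper.cechCx X K P).liftCycles (augP K P 0) 1 (by simp) (augP_d K P) x)).trans ?_
  refine congrArg ((Hyper.cechCx X L P).homologyπ 0) (iCycles_injective L P ?_)
  refine (ConcreteCategory.congr_hom (HomologicalComplex.cyclesMap_i (Hyper.cechMap X f P) 0) _).trans ?_
  refine (congrArg ((Hyper.cechMap X f P).f 0) (iCycles_lift K P x)).trans (Eq.trans ?_ (iCycles_lift L P x).symm)
  refine ConcreteCategory.congr_hom (?_ : augP K P 0 ≫ (Hyper.cechMap X f P).f 0 = augP L P 0) x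
  refine Pi.hom_ext (f := fun i : (L.obj (op ⦋0⦌)).I => P.obj (op ((L.obj (op ⦋0⦌)).obj i).left)) _ _ fun i => ?_
  have e : (Hyper.cechMap X f P).f 0 ≫ Pi.π (fun i => P.obj (op ((L.obj (op ⦋0⦌)).obj i).left)) i =
      Pi.π (fun i => P.obj (op ((K.obj (op ⦋0⦌)).obj i).left)) ((f.app (op ⦋0⦌)).f i) ≫
        P.map ((f.app (op ⦋0⦌)).φ i).left.op :=
    limit.lift_π _ (Discrete.mk i)
  refine (Category.assoc _ _ _).trans ((congrArg (augP K P 0 ≫ ·) e).trans ?_)
  refine (Category.assoc _ _ _).symm.trans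
    ((congrArg (· ≫ P.map ((f.app (op ⦋0⦌)).φ i).left.op) (augP_π K P 0 _)).trans ?_)
  refine Eq.trans ?_ (augP_π L P 0 i).symm
  exact (P.map_comp _ _).symm.trans (congrArg P.map (congrArg Quiver.Hom.op (Over.w ((f.app (op ⦋0⦌)).φ i))))

theorem hmap_resH {Q : Cᵒᵖ ⥤ AddCommGrpCat.{u}} (φ : P ⟶ Q) (x : P.obj (op X)) :
    hmap K φ 0 (resH K P x) = resH K Q (φ.app (op X) x) := by
  refine (ConcreteCategory.congr_hom (HomologicalComplex.homologyπ_naturality ((cxF X K).map φ) 0)
    ((Hyper.cechCx X K P).liftCycles (augP K P 0) 1 (by simp) (augP_d K P) x)).trans ?_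
  refine congrArg ((Hyper.cechCx X K Q).homologyπ 0) (iCycles_injective K Q ?_)
  refine (ConcreteCategory.congr_hom (HomologicalComplex.cyclesMap_i ((cxF X K).map φ) 0) _).trans ?_
  refine (congrArg (((cxF X K).map φ).f 0) (iCycles_lift K P x)).trans (Eq.trans ?_ (iCycles_lift K Q _).symm)
  refine ConcreteCategory.congr_hom
    (?_ : augP K P 0 ≫ ((cxF X K).map φ).f 0 = φ.app (op X) ≫ augP K Q 0) x
  refine Pi.hom_ext (f := fun i : (K.obj (op ⦋0⦌)).I => Q.obj (op ((K.obj (op ⦋0⦌)).obj i).left)) _ _ fun i => ?_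
  refine (Category.assoc _ _ _).trans ((congrArg (augP K P 0 ≫ ·) (cxF_map_f X K φ 0 i)).trans ?_)
  refine (Category.assoc _ _ _).symm.trans
    ((congrArg (· ≫ φ.app (op ((K.obj (op ⦋0⦌)).obj i).left)) (augP_π K P 0 i)).trans ?_)
  refine Eq.trans ?_ (Category.assoc _ _ _).symm
  refine Eq.trans ?_ (congrArg (φ.app (op X) ≫ ·) (augP_π K Q 0 i)).symm
  exact φ.naturality _

section Sheaf

variable {J : GrothendieckTopology C} (F : Sheaf J AddCommGrpCat.{u})
  [∀ (n : ℕ) (F : (SimplexCategory.Truncated n)ᵒᵖ ⥤ FormalCoproduct.{u} (Over X)),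
      (SimplexCategory.Truncated.inclusion n).op.HasRightKanExtension F]
  (hK : Hyper.IsHypercovering J X K)
include hK

theorem resH_bijective : Function.Bijective (resH K F.obj) := by
  have hsh : Presieve.IsSheafFor (F.obj ⋙ CategoryTheory.forget AddCommGrpCat.{u})
      (Presieve.ofArrows (fun i => ((K.obj (op ⦋0⦌)).obj i).left) (fun i => ((K.obj (op ⦋0⦌)).obj i).hom)) := by
    rw [Presieve.isSheafFor_iff_generate]
    exact (isSheaf_iff_isSheaf_of_type J _).1 ((sheafCompose J (CategoryTheory.forget AddCommGrpCat.{u})).obj F).property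
      _ hK.1
  refine ⟨(injective_iff_map_eq_zero (resH K F.obj)).2 fun x hx => ?_, fun ξ => ?_⟩
  · refine hsh.isSeparatedFor.ext fun V v hv => ?_
    obtain ⟨i⟩ := hv
    exact (resH_eq_zero K F.obj hx i).trans (map_zero (F.obj.map ((K.obj (op ⦋0⦌)).obj i).hom.op).hom).symm
  · obtain ⟨z, rfl⟩ := ((ConcreteCategory.isIso_iff_bijective ((Hyper.cechCx X K F.obj).homologyπ 0)).1
      inferInstance).2 ξ
    let s := (Hyper.cechCx X K F.obj).iCycles 0 z
    let si : ∀ i : (K.obj (op ⦋0⦌)).I, F.obj.obj (op ((K.obj (op ⦋0⦌)).obj i).left) := fun i =>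
      Pi.π (fun i => F.obj.obj (op ((K.obj (op ⦋0⦌)).obj i).left)) i s
    have hs : (cosim K F.obj).δ (n := 0) 0 s = (cosim K F.obj).δ (n := 0) 1 s := by
      have h : (Hyper.cechCx X K F.obj).d 0 1 s = 0 :=
        ConcreteCategory.congr_hom ((Hyper.cechCx X K F.obj).iCycles_d 0 1) z
      rw [d_zero_one] at h
      exact sub_eq_zero.1 h
    have hface : ∀ (j : Fin 2) {V : Over X} (y : sx (XK K) 1 V),
        F.obj.map ((dd j y).φ PUnit.unit).left.op (si ((dd j y).f PUnit.unit)) =
          F.obj.map (y.φ PUnit.unit).left.op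
            (Pi.π (fun i => F.obj.obj (op ((K.obj (op ⦋1⦌)).obj i).left)) (y.f PUnit.unit)
              ((cosim K F.obj).δ j s)) := fun j V y => by
      refine Eq.trans ?_ (congrArg (F.obj.map (y.φ PUnit.unit).left.op)
        (ConcreteCategory.congr_hom (cosim_δ_π K F.obj j (y.f PUnit.unit)) s)).symm
      show F.obj.map (y.φ PUnit.unit ≫ (K.δ j).φ (y.f PUnit.unit)).left.op _ = _
      rw [Over.comp_left, op_comp, F.obj.map_comp]
      rfl
    have hcompat : Presieve.Arrows.Compatible (F.obj ⋙ CategoryTheory.forget AddCommGrpCat.{u})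
        (fun i => ((K.obj (op ⦋0⦌)).obj i).hom) si := by
      intro i j Z a b hab
      let U : Over X := Over.mk (a ≫ ((K.obj (op ⦋0⦌)).obj i).hom)
      let x₀ : sx (XK K) 0 U := FormalCoproduct.Hom.fromIncl i (Over.homMk a rfl)
      let x₁ : sx (XK K) 0 U := FormalCoproduct.Hom.fromIncl j (Over.homMk b hab.symm)
      obtain ⟨R, hR, hR'⟩ := (HyperOver.locFill J X K hK).zero U x₀ x₁
      have hsep : Presieve.IsSheaf (J.over X) (((Over.forget X).op ⋙ F.obj) ⋙ CategoryTheory.forget AddCommGrpCat.{u}) :=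
        (isSheaf_iff_isSheaf_of_type _ _).1
          (((sheafCompose J (CategoryTheory.forget AddCommGrpCat.{u})).obj F).over X).property
      refine (hsep R hR).isSeparatedFor.ext (t₁ := F.obj.map a.op (si i)) (t₂ := F.obj.map b.op (si j))
        fun V v hv => ?_
      obtain ⟨y, h0, h1⟩ := hR' v hv
      show F.obj.map v.left.op (F.obj.map a.op (si i)) = F.obj.map v.left.op (F.obj.map b.op (si j))
      have key : ∀ (k : (K.obj (op ⦋0⦌)).I) (c : U ⟶ (K.obj (op ⦋0⦌)).obj k) (l : Fin 2),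
          dd l y = rs v (FormalCoproduct.Hom.fromIncl k c : sx (XK K) 0 U) →
          F.obj.map v.left.op (F.obj.map c.left.op (si k)) = F.obj.map (y.φ PUnit.unit).left.op
            (Pi.π (fun i => F.obj.obj (op ((K.obj (op ⦋1⦌)).obj i).left)) (y.f PUnit.unit)
              ((cosim K F.obj).δ l s)) := by
        intro k c l hl
        have e : ∀ (w : sx (XK K) 0 V), w = rs v (FormalCoproduct.Hom.fromIncl k c : sx (XK K) 0 U) →
            F.obj.map v.left.op (F.obj.map c.left.op (si k)) =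
              F.obj.map (w.φ PUnit.unit).left.op (si (w.f PUnit.unit)) := by
          rintro w rfl
          show _ = F.obj.map (v ≫ c).left.op (si k)
          rw [Over.comp_left, op_comp, F.obj.map_comp]
          rfl
        exact (e _ hl).trans (hface l y)
      exact (key i (Over.homMk a rfl) 0 h0).trans ((congrArg (fun t => F.obj.map (y.φ PUnit.unit).left.op
        (Pi.π (fun i => F.obj.obj (op ((K.obj (op ⦋1⦌)).obj i).left)) (y.f PUnit.unit) t)) hs).trans
          (key j (Over.homMk b hab.symm) 1 h1).symm)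
    obtain ⟨x, hx, -⟩ := (Presieve.isSheafFor_arrows_iff _ _).1 hsh si hcompat
    refine ⟨x, congrArg ((Hyper.cechCx X K F.obj).homologyπ 0) (iCycles_injective K F.obj ?_)⟩
    refine (iCycles_lift K F.obj x).trans (piExt (A := fun i => F.obj.obj (op ((K.obj (op ⦋0⦌)).obj i).left))
      _ _ fun i => ?_)
    exact (ConcreteCategory.congr_hom (augP_π K F.obj 0 i) x).trans (hx i)

end Sheaf

end Groth.Agent.H15Site.HyperBuild
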