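import Groth.Agent.H15Site.HyperBuild.Fill

/-!
# Simplices of diagrams in a set of objects

For a simplicial presheaf of sets `P` and a set `B` of objects, `Diag P B m` is the type of diagrams
of objects of `B`, indexed by the simplices of `Δ[m]` and equipped with a compatible family of sections of `P`.
-/

set_option autoImplicit false
set_option linter.style.haveILetI false
set_option linter.unusedSectionVars false
set_option backward.isDefEq.respectTransparency false

universe u

open CategoryTheory Opposite SimplexCategory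
open scoped Simplicial

namespace Groth.Agent.H15Site.HyperBuild

open HyperFill
open scoped Classical

variable {D : Type u} [SmallCategory D]

/-- A diagram of objects of `B` on the simplices of a standard simplex, with sections of `P`. -/
structure Diag (P : SimplicialObject (Dᵒᵖ ⥤ Type u)) (B : Set D) (m : SimplexCategory) : Type u where
  obj : ∀ {k : SimplexCategory}, (k ⟶ m) → D
  mem : ∀ {k : SimplexCategory} (θ : k ⟶ m), obj θ ∈ B
  hom : ∀ {k l : SimplexCategory} (g : l ⟶ k) (θ : k ⟶ m), obj θ ⟶ obj (g ≫ θ)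
  el : ∀ {k : SimplexCategory} (θ : k ⟶ m), (P.obj (op k)).obj (op (obj θ))
  hom_id : ∀ {k : SimplexCategory} (θ : k ⟶ m), hom (𝟙 k) θ = eqToHom (by rw [Category.id_comp])
  hom_comp : ∀ {j k l : SimplexCategory} (g : l ⟶ k) (g' : j ⟶ l) (θ : k ⟶ m),
    hom g θ ≫ hom g' (g ≫ θ) = hom (g' ≫ g) θ
  el_nat : ∀ {k l : SimplexCategory} (g : l ⟶ k) (θ : k ⟶ m),
    (P.map g.op).app (op (obj θ)) (el θ) = (P.obj (op l)).map (hom g θ).op (el (g ≫ θ))

namespace Diag

variable {P : SimplicialObject (Dᵒᵖ ⥤ Type u)} {B : Set D} {m m' : SimplexCategory}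

/-- The diagram pulled back along a simplicial operator. -/
def map (d : Diag P B m) (g : m' ⟶ m) : Diag P B m' where
  obj θ := d.obj (θ ≫ g)
  mem θ := d.mem (θ ≫ g)
  hom g' θ := d.hom g' (θ ≫ g)
  el θ := d.el (θ ≫ g)
  hom_id θ := d.hom_id (θ ≫ g)
  hom_comp g₁ g₂ θ := d.hom_comp g₁ g₂ (θ ≫ g)
  el_nat g₁ θ := d.el_nat g₁ (θ ≫ g)

lemma map_id (d : Diag P B m) : d.map (𝟙 m) = d := by with_unfolding_all rfl

lemma map_map {m'' : SimplexCategory} (d : Diag P B m) (g : m' ⟶ m) (g' : m'' ⟶ m') :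
    (d.map g).map g' = d.map (g' ≫ g) := rfl

/-- The top object of a diagram. -/
abbrev top (d : Diag P B m) : D := d.obj (𝟙 m)

lemma ext' {d d' : Diag P B m} (hobj : ∀ (k : SimplexCategory) (θ : k ⟶ m), d.obj θ = d'.obj θ)
    (hhom : ∀ (k l : SimplexCategory) (g : l ⟶ k) (θ : k ⟶ m),
      d.hom g θ ≫ eqToHom (hobj l (g ≫ θ)) = eqToHom (hobj k θ) ≫ d'.hom g θ)
    (hel : ∀ (k : SimplexCategory) (θ : k ⟶ m),
      d.el θ = (P.obj (op k)).map (eqToHom (hobj k θ)).op (d'.el θ)) : d = d' := by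
  obtain ⟨o, _, hm, e, _, _, _⟩ := d
  obtain ⟨o', _, hm', e', _, _, _⟩ := d'
  have ho : @o = @o' := funext fun k => funext fun θ => hobj k θ
  subst ho
  have h1 : @hm = @hm' := funext fun k => funext fun l => funext fun g => funext fun θ => by
    simpa using hhom k l g θ
  have h2 : @e = @e' := funext fun k => funext fun θ => by simpa using hel k θ
  subst h1; subst h2
  rfl

lemma hom_congr (d : Diag P B m) {k l : SimplexCategory} (g : l ⟶ k) {θ θ' : k ⟶ m} (h : θ = θ') :
    d.hom g θ ≫ eqToHom (by rw [h]) = eqToHom (by rw [h]) ≫ d.hom g θ' := by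
  subst h; simp

lemma el_congr (d : Diag P B m) {k : SimplexCategory} {θ θ' : k ⟶ m} (h : θ = θ') :
    d.el θ = (P.obj (op k)).map (eqToHom (congrArg d.obj h)).op (d.el θ') := by
  subst h; simp

/-- The transition morphism of diagrams related by a simplicial operator. -/
def tr {d : Diag P B m} {d' : Diag P B m'} (g : m' ⟶ m) (h : d' = d.map g) : d.top ⟶ d'.top :=
  d.hom g (𝟙 m) ≫ eqToHom (by rw [h]; rfl)

lemma tr_refl {d : Diag P B m} (g : m' ⟶ m) : tr g (rfl : d.map g = d.map g) = d.hom g (𝟙 m) :=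
  Category.comp_id _

lemma tr_tr {m'' : SimplexCategory} {d : Diag P B m} {d' : Diag P B m'} {d'' : Diag P B m''}
    (g : m' ⟶ m) (g' : m'' ⟶ m') (h : d' = d.map g) (h' : d'' = d'.map g') :
    tr g h ≫ tr g' h' = tr (g' ≫ g) (h'.trans (by rw [h]; rfl)) := by
  subst h; subst h'
  rw [tr_refl, tr_refl]
  exact ((d.hom_comp g g' (𝟙 m))).trans (Category.comp_id _).symm

lemma tr_el {d : Diag P B m} {d' : Diag P B m'} (g : m' ⟶ m) (h : d' = d.map g) :
    (P.map g.op).app (op d.top) (d.el (𝟙 m)) = (P.obj (op m')).map (tr g h).op (d'.el (𝟙 m')) := by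
  subst h
  rw [tr_refl]
  exact d.el_nat g (𝟙 m)

end Diag

variable (P : SimplicialObject (Dᵒᵖ ⥤ Type u)) (B : Set D)

/-- A section of the simplicial semi-representable object of diagrams. -/
abbrev El (m : SimplexCategory) (U : D) : Type u := Σ d : Diag P B m, U ⟶ d.top

namespace El

variable {P B} {m m' : SimplexCategory} {U V : D}

/-- The action of a simplicial operator. -/
def map (x : El P B m U) (g : m' ⟶ m) : El P B m' U :=
  ⟨x.1.map g, x.2 ≫ x.1.hom g (𝟙 m)⟩

/-- Restriction. -/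
def res (x : El P B m U) (v : V ⟶ U) : El P B m V := ⟨x.1, v ≫ x.2⟩

/-- The underlying section of `P`. -/
def val (x : El P B m U) : (P.obj (op m)).obj (op U) :=
  (P.obj (op m)).map x.2.op (x.1.el (𝟙 m))

lemma map_id (x : El P B m U) : x.map (𝟙 m) = x :=
  Sigma.ext (Diag.map_id x.1) ((heq_of_eq (congrArg (x.2 ≫ ·) (x.1.hom_id (𝟙 m)))).trans
    (comp_eqToHom_heq _ _))

lemma map_map {m'' : SimplexCategory} (x : El P B m U) (g : m' ⟶ m) (g' : m'' ⟶ m') :
    (x.map g).map g' = x.map (g' ≫ g) :=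
  Sigma.ext rfl (heq_of_eq ((Category.assoc _ _ _).trans
    (congrArg (x.2 ≫ ·) (x.1.hom_comp g g' (𝟙 m)))))

lemma val_res (x : El P B m U) (v : V ⟶ U) : (x.res v).val = (P.obj (op m)).map v.op x.val := by
  simp [val, res]

lemma val_map (x : El P B m U) (g : m' ⟶ m) : (x.map g).val = (P.map g.op).app (op U) x.val := by
  refine Eq.trans ?_ (ConcreteCategory.congr_hom ((P.map g.op).naturality x.2.op) (x.1.el (𝟙 m))).symm
  refine Eq.trans ?_ (congrArg ((P.obj (op m')).map x.2.op) (x.1.el_nat g (𝟙 m))).symm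
  simp [val, map]
  rfl

lemma ext_tr {x : El P B m U} {y : El P B m' U} (g : m' ⟶ m) (h : x.map g = y) :
    ∃ h' : y.1 = x.1.map g, x.2 ≫ Diag.tr g h' = y.2 := by
  subst h
  exact ⟨rfl, congrArg (x.2 ≫ ·) (Diag.tr_refl g)⟩

end El

section Glue

variable {P B} {m : SimplexCategory} {W : D} (hW : W ∈ B)
  (z : ∀ (k : SimplexCategory) (θ : k ⟶ m), ¬ Function.Surjective θ.toOrderHom → El P B k W)
  (hz : ∀ (k l : SimplexCategory) (g : l ⟶ k) (θ : k ⟶ m) (h : ¬ Function.Surjective θ.toOrderHom)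
    (h' : ¬ Function.Surjective (g ≫ θ).toOrderHom), (z k θ h).map g = z l (g ≫ θ) h')
  (e : (P.obj (op m)).obj (op W))
  (he : ∀ (k : SimplexCategory) (θ : k ⟶ m) (h : ¬ Function.Surjective θ.toOrderHom),
    (z k θ h).val = (P.map θ.op).app (op W) e)

lemma surjective_of_comp {k l : SimplexCategory} {g : l ⟶ k} {θ : k ⟶ m}
    (h : Function.Surjective (g ≫ θ).toOrderHom) : Function.Surjective θ.toOrderHom :=
  Function.Surjective.of_comp (g := g.toOrderHom) h

/-- The objects of the glued diagram. -/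
abbrev gObj {k : SimplexCategory} (θ : k ⟶ m) : Decidable (Function.Surjective θ.toOrderHom) → D
  | isTrue _ => W
  | isFalse h => (z k θ h).1.top

/-- The structure morphisms from `W`. -/
def gPhi {k : SimplexCategory} (θ : k ⟶ m) :
    ∀ a : Decidable (Function.Surjective θ.toOrderHom), W ⟶ gObj z θ a
  | isTrue _ => 𝟙 W
  | isFalse h => (z k θ h).2

include hz in
lemma gEq {k l : SimplexCategory} (g : l ⟶ k) (θ : k ⟶ m) (h : ¬ Function.Surjective θ.toOrderHom)
    (h' : ¬ Function.Surjective (g ≫ θ).toOrderHom) : (z l (g ≫ θ) h').1 = (z k θ h).1.map g :=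
  (El.ext_tr g (hz k l g θ h h')).choose

/-- The transition morphisms of the glued diagram. -/
def gHom {k l : SimplexCategory} (g : l ⟶ k) (θ : k ⟶ m) :
    ∀ (a : Decidable (Function.Surjective θ.toOrderHom))
      (b : Decidable (Function.Surjective (g ≫ θ).toOrderHom)), gObj z θ a ⟶ gObj z (g ≫ θ) b
  | isTrue _, isTrue _ => 𝟙 W
  | isTrue _, isFalse h => (z l (g ≫ θ) h).2
  | isFalse h, isTrue h' => absurd (surjective_of_comp h') h
  | isFalse h, isFalse h' => Diag.tr g (gEq z hz g θ h h')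

/-- The sections of the glued diagram. -/
def gEl {k : SimplexCategory} (θ : k ⟶ m) :
    ∀ a : Decidable (Function.Surjective θ.toOrderHom), (P.obj (op k)).obj (op (gObj z θ a))
  | isTrue _ => (P.map θ.op).app (op W) e
  | isFalse h => (z k θ h).1.el (𝟙 k)

lemma gPhi_gHom {k l : SimplexCategory} (g : l ⟶ k) (θ : k ⟶ m) :
    ∀ (a : Decidable (Function.Surjective θ.toOrderHom))
      (b : Decidable (Function.Surjective (g ≫ θ).toOrderHom)),
      gPhi z θ a ≫ gHom z hz g θ a b = gPhi z (g ≫ θ) b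
  | isTrue _, isTrue _ => Category.id_comp _
  | isTrue _, isFalse _ => Category.id_comp _
  | isFalse h, isTrue h' => absurd (surjective_of_comp h') h
  | isFalse h, isFalse h' => (El.ext_tr g (hz k l g θ h h')).choose_spec

lemma gHom_id {k : SimplexCategory} (θ : k ⟶ m) :
    ∀ (a : Decidable (Function.Surjective θ.toOrderHom))
      (b : Decidable (Function.Surjective (𝟙 k ≫ θ).toOrderHom)),
      ∃ H, gHom z hz (𝟙 k) θ a b = eqToHom H
  | isTrue _, isTrue _ => ⟨rfl, rfl⟩
  | isTrue h, isFalse h' => absurd (by rwa [Category.id_comp]) h'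
  | isFalse h, isTrue h' => absurd (surjective_of_comp h') h
  | isFalse h, isFalse h' =>
    ⟨((z k θ h).1.map_id.symm ▸ congrArg Diag.top (gEq z hz (𝟙 k) θ h h').symm :), by
      change (z k θ h).1.hom (𝟙 k) (𝟙 k) ≫ eqToHom _ = _
      rw [Diag.hom_id, eqToHom_trans]⟩

lemma gHom_comp {j k l : SimplexCategory} (g : l ⟶ k) (g' : j ⟶ l) (θ : k ⟶ m) :
    ∀ (a : Decidable (Function.Surjective θ.toOrderHom))
      (b : Decidable (Function.Surjective (g ≫ θ).toOrderHom))
      (c : Decidable (Function.Surjective (g' ≫ g ≫ θ).toOrderHom)),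
      gHom z hz g θ a b ≫ gHom z hz g' (g ≫ θ) b c = gHom z hz (g' ≫ g) θ a c
  | isTrue _, isTrue _, isTrue _ => Category.id_comp _
  | isTrue _, isTrue _, isFalse _ => Category.id_comp _
  | isTrue _, isFalse h, isTrue h' => absurd (surjective_of_comp h') h
  | isTrue _, isFalse h', isFalse h'' => gPhi_gHom z hz g' (g ≫ θ) (isFalse h') (isFalse h'')
  | isFalse h, isTrue h', _ => absurd (surjective_of_comp h') h
  | isFalse _, isFalse h', isTrue h'' => absurd (surjective_of_comp h'') h'
  | isFalse h, isFalse h', isFalse h'' =>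
    Diag.tr_tr g g' (gEq z hz g θ h h') (gEq z hz g' (g ≫ θ) h' h'')

include he in
lemma gEl_nat {k l : SimplexCategory} (g : l ⟶ k) (θ : k ⟶ m) :
    ∀ (a : Decidable (Function.Surjective θ.toOrderHom))
      (b : Decidable (Function.Surjective (g ≫ θ).toOrderHom)),
      (P.map g.op).app (op (gObj z θ a)) (gEl z e θ a) =
        (P.obj (op l)).map (gHom z hz g θ a b).op (gEl z e (g ≫ θ) b)
  | isTrue _, isTrue _ => by
    simp [gEl, gHom]
  | isTrue _, isFalse h => by
    change (P.map g.op).app (op W) ((P.map θ.op).app (op W) e) = (z l (g ≫ θ) h).val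
    rw [he l (g ≫ θ) h]
    simp
  | isFalse h, isTrue h' => absurd (surjective_of_comp h') h
  | isFalse h, isFalse h' => Diag.tr_el g (gEq z hz g θ h h')

/-- The glued diagram. -/
noncomputable def glue : Diag P B m where
  obj θ := gObj z θ (Classical.propDecidable _)
  mem θ := by
    cases Classical.propDecidable (Function.Surjective θ.toOrderHom) with
    | isTrue h => exact hW
    | isFalse h => exact (z _ θ h).1.mem (𝟙 _)
  hom g θ := gHom z hz g θ _ _
  el θ := gEl z e θ _
  hom_id θ := (gHom_id z hz θ _ _).choose_spec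
  hom_comp g g' θ := gHom_comp z hz g g' θ _ _ _
  el_nat g θ := gEl_nat z hz e he g θ _ _

/-- The glued section. -/
noncomputable def glueEl : El P B m W := ⟨glue hW z hz e he, gPhi z (𝟙 m) _⟩

lemma glueEl_map {k : SimplexCategory} (θ : k ⟶ m) (h : ¬ Function.Surjective θ.toOrderHom) :
    (glueEl hW z hz e he).map θ = z k θ h := by
  have hn : ∀ {l : SimplexCategory} (θ' : l ⟶ k), ¬ Function.Surjective (θ' ≫ θ).toOrderHom :=
    fun θ' hs => h (surjective_of_comp hs)
  have hd : ∀ {l : SimplexCategory} (θ' : l ⟶ k),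
      Classical.propDecidable (Function.Surjective (θ' ≫ θ).toOrderHom) = isFalse (hn θ') :=
    fun θ' => Subsingleton.elim _ _
  have ho : ∀ (l : SimplexCategory) (θ' : l ⟶ k),
      ((glue hW z hz e he).map θ).obj θ' = (z k θ h).1.obj θ' := by
    intro l θ'
    change gObj z (θ' ≫ θ) (Classical.propDecidable _) = _
    rw [hd θ']
    change (z l (θ' ≫ θ) (hn θ')).1.top = _
    rw [gEq z hz θ' θ h (hn θ')]
    exact congrArg (z k θ h).1.obj (Category.id_comp θ')
  have key : ∀ {l : SimplexCategory} (θ' : l ⟶ k) (a : Decidable (Function.Surjective (θ' ≫ θ).toOrderHom)),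
      ∃ (H : gObj z (θ' ≫ θ) a = (z k θ h).1.obj θ'),
        gEl z e (θ' ≫ θ) a = (P.obj (op l)).map (eqToHom H).op ((z k θ h).1.el θ') := by
    intro l θ' a
    rcases a with h' | h'
    · have aux : ∀ (d : Diag P B l), d = (z k θ h).1.map θ' → ∃ (H : d.top = (z k θ h).1.obj θ'),
          d.el (𝟙 l) = (P.obj (op l)).map (eqToHom H).op ((z k θ h).1.el θ') := by
        rintro d rfl
        exact ⟨congrArg (z k θ h).1.obj (Category.id_comp θ'),
          Diag.el_congr (z k θ h).1 (Category.id_comp θ')⟩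
      exact aux _ (gEq z hz θ' θ h h')
    · exact absurd h' (hn θ')
  have key2 : ∀ {l j : SimplexCategory} (g : j ⟶ l) (θ' : l ⟶ k)
      (a : Decidable (Function.Surjective (θ' ≫ θ).toOrderHom))
      (b : Decidable (Function.Surjective (g ≫ θ' ≫ θ).toOrderHom))
      (Ha : gObj z (θ' ≫ θ) a = (z k θ h).1.obj θ')
      (Hb : gObj z (g ≫ θ' ≫ θ) b = (z k θ h).1.obj (g ≫ θ')),
      gHom z hz g (θ' ≫ θ) a b ≫ eqToHom Hb = eqToHom Ha ≫ (z k θ h).1.hom g θ' := by
    intro l j g θ' a b Ha Hb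
    rcases a with h1 | h1
    · rcases b with h2 | h2
      · have aux : ∀ (d : Diag P B l) (d' : Diag P B j) (_ : d = (z k θ h).1.map θ')
            (hd' : d' = d.map g) (Ha : d.top = (z k θ h).1.obj θ')
            (Hb : d'.top = (z k θ h).1.obj (g ≫ θ')),
            Diag.tr g hd' ≫ eqToHom Hb = eqToHom Ha ≫ (z k θ h).1.hom g θ' := by
          rintro d d' rfl rfl Ha Hb
          rw [Diag.tr_refl]
          exact Diag.hom_congr (z k θ h).1 g (Category.id_comp θ')
        exact aux _ _ (gEq z hz θ' θ h h1) (gEq z hz g (θ' ≫ θ) h1 h2) Ha Hb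
      · exact absurd (surjective_of_comp h2) h1
    · exact absurd h1 (hn θ')
  have h1 : (glue hW z hz e he).map θ = (z k θ h).1 :=
    Diag.ext' ho (fun l j g θ' => key2 g θ' _ _ _ _) fun l θ' => (key θ' _).choose_spec
  refine Sigma.ext h1 ?_
  refine (comp_eqToHom_heq _ (congrArg Diag.top h1)).symm.trans (heq_of_eq ?_)
  change (gPhi z (𝟙 m) _ ≫ gHom z hz θ (𝟙 m) _ _) ≫ eqToHom _ = _
  rw [gPhi_gHom]
  have key3 : ∀ (θ'' : k ⟶ m), θ'' = θ → ∀ (a : Decidable (Function.Surjective θ''.toOrderHom))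
      (H : gObj z θ'' a = (z k θ h).1.top), gPhi z θ'' a ≫ eqToHom H = (z k θ h).2 := by
    rintro θ'' rfl a H
    rcases a with h' | h'
    · exact Category.comp_id _
    · exact absurd h' h
  exact key3 _ (Category.comp_id θ) _ _

end Glue

end Groth.Agent.H15Site.HyperBuild
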