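import Groth.Agent.S3882
import Groth.Agent.H15Site.HyperCech
import Mathlib.Algebra.Homology.HomologySequence
import Mathlib.Algebra.Homology.HomologySequenceLemmas

/-!
# Čech classes on hypercoverings up to refinement
-/

set_option autoImplicit false
set_option linter.style.haveILetI false
set_option linter.unusedSectionVars false
set_option backward.isDefEq.respectTransparency false

universe u

open CategoryTheory CategoryTheory.Limits Opposite
open scoped Simplicial

namespace Groth.Agent.H15Site.HyperBuild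

variable {C : Type u} [SmallCategory C] (X : C)

/-- The Čech complex as a functor of the presheaf. -/
noncomputable abbrev cxF (K : SimplicialObject (FormalCoproduct.{u} (Over X))) :
    (Cᵒᵖ ⥤ AddCommGrpCat.{u}) ⥤ CochainComplex AddCommGrpCat.{u} ℕ :=
  (Functor.whiskeringLeft _ _ _).obj (Over.forget X).op ⋙ FormalCoproduct.cochainComplexFunctor K

variable {X} {K L M : SimplicialObject (FormalCoproduct.{u} (Over X))}

theorem cechMap_natural (f : L ⟶ K) {P Q : Cᵒᵖ ⥤ AddCommGrpCat.{u}} (φ : P ⟶ Q) :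
    Hyper.cechMap X f P ≫ (cxF X L).map φ = (cxF X K).map φ ≫ Hyper.cechMap X f Q := by
  refine ((AlgebraicTopology.alternatingCofaceMapComplex _).map_comp _ _).symm.trans
    (Eq.trans ?_ ((AlgebraicTopology.alternatingCofaceMapComplex _).map_comp _ _))
  exact congrArg _ (((Functor.whiskeringLeft _ _ AddCommGrpCat.{u}).map (NatTrans.rightOp f)).naturality
    ((FormalCoproduct.evalOp.{u} (Over X) AddCommGrpCat.{u}).map
      (Functor.whiskerLeft (Over.forget X).op φ))).symm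

theorem cechMap_comp (f : L ⟶ K) (g : M ⟶ L) (P : Cᵒᵖ ⥤ AddCommGrpCat.{u}) :
    Hyper.cechMap X (g ≫ f) P = Hyper.cechMap X f P ≫ Hyper.cechMap X g P := by
  refine Eq.trans ?_ ((AlgebraicTopology.alternatingCofaceMapComplex _).map_comp _ _)
  refine congrArg _ (NatTrans.ext (funext fun Δ => ?_))
  exact ((FormalCoproduct.evalOp.{u} (Over X) AddCommGrpCat.{u}).obj
    ((Over.forget X).op ⋙ P)).map_comp (f.app (op Δ)).op (g.app (op Δ)).op

/-- An element of a product. -/
noncomputable def piMk {ι : Type u} {A : ι → AddCommGrpCat.{u}} (x : ∀ i, A i) : (∏ᶜ A : AddCommGrpCat.{u}) :=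
  (Pi.lift (P := AddCommGrpCat.of (∀ i, A i)) fun i => AddCommGrpCat.ofHom (Pi.evalAddMonoidHom (fun i => A i) i)) x

lemma piMk_π {ι : Type u} {A : ι → AddCommGrpCat.{u}} (x : ∀ i, A i) (i : ι) :
    Pi.π A i (piMk x) = x i :=
  ConcreteCategory.congr_hom (Pi.lift_π (C := AddCommGrpCat.{u}) (f := A)
    (fun i => AddCommGrpCat.ofHom (Pi.evalAddMonoidHom (fun i => A i) i)) i) x

lemma piExt {ι : Type u} {A : ι → AddCommGrpCat.{u}} (x y : (∏ᶜ A : AddCommGrpCat.{u}))
    (h : ∀ i, Pi.π A i x = Pi.π A i y) : x = y :=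
  Concrete.limit_ext (Discrete.functor A) x y fun ⟨i⟩ => h i

variable (X K) in
theorem cxF_map_f {P Q : Cᵒᵖ ⥤ AddCommGrpCat.{u}} (φ : P ⟶ Q) (n : ℕ) (i : (K.obj (op ⦋n⦌)).I) :
    ((cxF X K).map φ).f n ≫ Pi.π (fun i => Q.obj (op ((K.obj (op ⦋n⦌)).obj i).left)) i =
      Pi.π (fun i => P.obj (op ((K.obj (op ⦋n⦌)).obj i).left)) i ≫
        φ.app (op ((K.obj (op ⦋n⦌)).obj i).left) :=
  Pi.map_π (f := fun i => P.obj (op ((K.obj (op ⦋n⦌)).obj i).left))
    (g := fun i => Q.obj (op ((K.obj (op ⦋n⦌)).obj i).left))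
    (fun i => φ.app (op ((K.obj (op ⦋n⦌)).obj i).left)) i

variable (K) in
instance : (cxF X K).PreservesZeroMorphisms where
  map_zero P Q := by
    refine HomologicalComplex.hom_ext _ _ fun n => ConcreteCategory.hom_ext _ _ fun x => ?_
    refine piExt (A := fun i => Q.obj (op ((K.obj (op ⦋n⦌)).obj i).left)) _ _ fun i => ?_
    refine (ConcreteCategory.congr_hom (cxF_map_f X K 0 n i) x).trans ?_
    exact (map_zero (Pi.π (fun i => Q.obj (op ((K.obj (op ⦋n⦌)).obj i).left)) i).hom).symm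

variable (K) in
/-- The Čech complex is exact on presheaves. -/
theorem shortExact_cxF {S : ShortComplex (Cᵒᵖ ⥤ AddCommGrpCat.{u})} (hS : S.ShortExact) :
    (S.map (cxF X K)).ShortExact := by
  have hU : ∀ U, (S.map ((evaluation Cᵒᵖ AddCommGrpCat.{u}).obj U)).ShortExact := fun U =>
    hS.map_of_exact _
  refine HomologicalComplex.shortExact_of_degreewise_shortExact _ fun n => ?_
  let A₁ := fun i : (K.obj (op ⦋n⦌)).I => S.X₁.obj (op ((K.obj (op ⦋n⦌)).obj i).left)
  let A₂ := fun i : (K.obj (op ⦋n⦌)).I => S.X₂.obj (op ((K.obj (op ⦋n⦌)).obj i).left)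
  let A₃ := fun i : (K.obj (op ⦋n⦌)).I => S.X₃.obj (op ((K.obj (op ⦋n⦌)).obj i).left)
  refine
    { exact := ?_
      mono_f := ?_
      epi_g := ?_ }
  · rw [ShortComplex.ab_exact_iff]
    intro (x : (∏ᶜ A₂ : AddCommGrpCat.{u})) hx
    have hx' : ∀ i, S.g.app (op ((K.obj (op ⦋n⦌)).obj i).left) (Pi.π A₂ i x) = 0 := fun i =>
      (ConcreteCategory.congr_hom (cxF_map_f X K S.g n i) x).symm.trans
        ((congrArg (Pi.π A₃ i) hx).trans (map_zero _))
    choose y hy using fun i => (ShortComplex.ab_exact_iff _).1 (hU _).exact (Pi.π A₂ i x) (hx' i)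
    refine ⟨(piMk (A := A₁) y), piExt (A := A₂) _ _ fun i => ?_⟩
    refine (ConcreteCategory.congr_hom (cxF_map_f X K S.f n i) (piMk (A := A₁) y)).trans ?_
    exact (congrArg (S.f.app (op ((K.obj (op ⦋n⦌)).obj i).left)) (piMk_π (A := A₁) y i)).trans (hy i)
  · rw [AddCommGrpCat.mono_iff_injective]
    intro (x : (∏ᶜ A₁ : AddCommGrpCat.{u})) (y : (∏ᶜ A₁ : AddCommGrpCat.{u})) h
    refine piExt (A := A₁) _ _ fun i => (AddCommGrpCat.mono_iff_injective _).1
      (hU (op ((K.obj (op ⦋n⦌)).obj i).left)).mono_f ?_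
    exact (ConcreteCategory.congr_hom (cxF_map_f X K S.f n i) x).symm.trans
      ((congrArg (Pi.π A₂ i) h).trans (ConcreteCategory.congr_hom (cxF_map_f X K S.f n i) y))
  · rw [AddCommGrpCat.epi_iff_surjective]
    intro (x : (∏ᶜ A₃ : AddCommGrpCat.{u}))
    choose y hy using fun i => (AddCommGrpCat.epi_iff_surjective _).1
      (hU (op ((K.obj (op ⦋n⦌)).obj i).left)).epi_g (Pi.π A₃ i x)
    refine ⟨(piMk (A := A₂) y), piExt (A := A₃) _ _ fun i => ?_⟩
    refine (ConcreteCategory.congr_hom (cxF_map_f X K S.g n i) (piMk (A := A₂) y)).trans ?_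
    exact (congrArg (S.g.app (op ((K.obj (op ⦋n⦌)).obj i).left)) (piMk_π (A := A₂) y i)).trans (hy i)

/-- The map on Čech cohomology of a map of presheaves. -/
noncomputable abbrev hmap (K : SimplicialObject (FormalCoproduct.{u} (Over X))) {P Q : Cᵒᵖ ⥤ AddCommGrpCat.{u}}
    (φ : P ⟶ Q) (q : ℕ) : Hyper.cechH X K P q →+ Hyper.cechH X K Q q :=
  (HomologicalComplex.homologyMap ((cxF X K).map φ) q).hom

theorem cechHMap_hmap (f : L ⟶ K) {P Q : Cᵒᵖ ⥤ AddCommGrpCat.{u}} (φ : P ⟶ Q) (q : ℕ)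
    (x : Hyper.cechH X K P q) :
    Hyper.cechHMap X f Q q (hmap K φ q x) = hmap L φ q (Hyper.cechHMap X f P q x) := by
  have h := congrArg (fun t => HomologicalComplex.homologyMap t q) (cechMap_natural f φ)
  simp only [HomologicalComplex.homologyMap_comp] at h
  exact (ConcreteCategory.congr_hom h x).symm

theorem cechHMap_comp (f : L ⟶ K) (g : M ⟶ L) (P : Cᵒᵖ ⥤ AddCommGrpCat.{u}) (q : ℕ)
    (x : Hyper.cechH X K P q) :
    Hyper.cechHMap X (g ≫ f) P q x = Hyper.cechHMap X g P q (Hyper.cechHMap X f P q x) := by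
  have h := congrArg (fun t => HomologicalComplex.homologyMap t q) (cechMap_comp f g P)
  simp only [HomologicalComplex.homologyMap_comp] at h
  exact ConcreteCategory.congr_hom h x

/-- The morphism of short complexes of Čech complexes of a refinement. -/
noncomputable def scMap (f : L ⟶ K) (S : ShortComplex (Cᵒᵖ ⥤ AddCommGrpCat.{u})) :
    S.map (cxF X K) ⟶ S.map (cxF X L) where
  τ₁ := Hyper.cechMap X f S.X₁
  τ₂ := Hyper.cechMap X f S.X₂
  τ₃ := Hyper.cechMap X f S.X₃
  comm₁₂ := cechMap_natural f S.f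
  comm₂₃ := cechMap_natural f S.g

section SES

variable {S : ShortComplex (Cᵒᵖ ⥤ AddCommGrpCat.{u})} (hS : S.ShortExact)
include hS

variable (K) in
/-- The connecting map. -/
noncomputable def cδ (q : ℕ) : Hyper.cechH X K S.X₃ q →+ Hyper.cechH X K S.X₁ (q + 1) :=
  ((shortExact_cxF K hS).δ q (q + 1) rfl).hom

theorem cechHMap_cδ (f : L ⟶ K) (q : ℕ) (x : Hyper.cechH X K S.X₃ q) :
    Hyper.cechHMap X f S.X₁ (q + 1) (cδ K hS q x) = cδ L hS q (Hyper.cechHMap X f S.X₃ q x) :=
  ConcreteCategory.congr_hom (HomologicalComplex.HomologySequence.δ_naturality (scMap f S)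
    (shortExact_cxF K hS) (shortExact_cxF L hS) q (q + 1) rfl) x

theorem exact₁ (q : ℕ) (x : Hyper.cechH X K S.X₁ (q + 1)) (hx : hmap K S.f (q + 1) x = 0) :
    ∃ y, cδ K hS q y = x :=
  (ShortComplex.ab_exact_iff _).1 ((shortExact_cxF K hS).homology_exact₁ q (q + 1) rfl) x hx

theorem exact₂ (q : ℕ) (x : Hyper.cechH X K S.X₂ q) (hx : hmap K S.g q x = 0) :
    ∃ y, hmap K S.f q y = x :=
  (ShortComplex.ab_exact_iff _).1 ((shortExact_cxF K hS).homology_exact₂ q) x hx

theorem exact₃ (q : ℕ) (x : Hyper.cechH X K S.X₃ q) (hx : cδ K hS q x = 0) :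
    ∃ y, hmap K S.g q y = x :=
  (ShortComplex.ab_exact_iff _).1 ((shortExact_cxF K hS).homology_exact₃ q (q + 1) rfl) x hx

theorem cδ_hmap (q : ℕ) (x : Hyper.cechH X K S.X₂ q) : cδ K hS q (hmap K S.g q x) = 0 :=
  ConcreteCategory.congr_hom ((shortExact_cxF K hS).comp_δ q (q + 1) rfl) x

theorem hmap_zero_injective (x : Hyper.cechH X K S.X₁ 0) (hx : hmap K S.f 0 x = 0) : x = 0 := by
  haveI := (shortExact_cxF K hS).mono_f
  haveI := HomologicalComplex.mono_homologyMap_of_mono_of_not_rel (S.map (cxF X K)).f 0 (by simp)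
  exact (injective_iff_map_eq_zero (hmap K S.f 0)).1
    ((AddCommGrpCat.mono_iff_injective _).1 this) x hx

end SES

variable (J : GrothendieckTopology C)
  [∀ (n : ℕ) (F : (SimplexCategory.Truncated n)ᵒᵖ ⥤ FormalCoproduct.{u} (Over X)),
      (SimplexCategory.Truncated.inclusion n).op.HasRightKanExtension F]

variable (X) in
/-- Every Čech class on a hypercovering dies on a refinement. -/
def Die (P : Cᵒᵖ ⥤ AddCommGrpCat.{u}) (q : ℕ) : Prop :=
  ∀ (K : SimplicialObject (FormalCoproduct.{u} (Over X))), Hyper.IsHypercovering J X K →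
    ∀ ξ : Hyper.cechH X K P q, ∃ (L : SimplicialObject (FormalCoproduct.{u} (Over X))) (f : L ⟶ K),
      Hyper.IsHypercovering J X L ∧ Hyper.cechHMap X f P q ξ = 0

variable {J} [HasPullbacks C]

theorem die_of_sheafify_zero {N : Cᵒᵖ ⥤ AddCommGrpCat.{u}}
    (hN : IsZero ((presheafToSheaf J AddCommGrpCat.{u}).obj N)) (q : ℕ) : Die X J N q :=
  fun K hK ξ => Groth.Agent.S3882.result J X K hK N hN q ξ

variable {S : ShortComplex (Cᵒᵖ ⥤ AddCommGrpCat.{u})} (hS : S.ShortExact)
include hS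

theorem die_iff_of_left (hN : IsZero ((presheafToSheaf J AddCommGrpCat.{u}).obj S.X₁)) (q : ℕ) :
    Die X J S.X₂ q ↔ Die X J S.X₃ q := by
  constructor
  · intro h K hK x
    obtain ⟨L, f, hL, hf⟩ := die_of_sheafify_zero hN (q + 1) K hK (cδ K hS q x)
    obtain ⟨y, hy⟩ := exact₃ hS q (Hyper.cechHMap X f S.X₃ q x) ((cechHMap_cδ hS f q x).symm.trans hf)
    obtain ⟨M, g, hM, hg⟩ := h L hL y
    exact ⟨M, g ≫ f, hM, by rw [cechHMap_comp, ← hy, cechHMap_hmap, hg, map_zero]⟩
  · intro h K hK x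
    obtain ⟨L, f, hL, hf⟩ := h K hK (hmap K S.g q x)
    obtain ⟨y, hy⟩ := exact₂ hS q (Hyper.cechHMap X f S.X₂ q x) ((cechHMap_hmap f S.g q x).symm.trans hf)
    obtain ⟨M, g, hM, hg⟩ := die_of_sheafify_zero hN q L hL y
    exact ⟨M, g ≫ f, hM, by rw [cechHMap_comp, ← hy, cechHMap_hmap, hg, map_zero]⟩

theorem die_iff_of_right (hN : IsZero ((presheafToSheaf J AddCommGrpCat.{u}).obj S.X₃)) (q : ℕ) :
    Die X J S.X₁ q ↔ Die X J S.X₂ q := by
  constructor
  · intro h K hK x
    obtain ⟨L, f, hL, hf⟩ := die_of_sheafify_zero hN q K hK (hmap K S.g q x)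
    obtain ⟨y, hy⟩ := exact₂ hS q (Hyper.cechHMap X f S.X₂ q x) ((cechHMap_hmap f S.g q x).symm.trans hf)
    obtain ⟨M, g, hM, hg⟩ := h L hL y
    exact ⟨M, g ≫ f, hM, by rw [cechHMap_comp, ← hy, cechHMap_hmap, hg, map_zero]⟩
  · intro h K hK x
    obtain ⟨L, f, hL, hf⟩ := h K hK (hmap K S.f q x)
    have hf' : hmap L S.f q (Hyper.cechHMap X f S.X₁ q x) = 0 := (cechHMap_hmap f S.f q x).symm.trans hf
    cases q with
    | zero => exact ⟨L, f, hL, hmap_zero_injective hS _ hf'⟩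
    | succ q =>
      obtain ⟨y, hy⟩ := exact₁ hS q _ hf'
      obtain ⟨M, g, hM, hg⟩ := die_of_sheafify_zero hN q L hL y
      exact ⟨M, g ≫ f, hM, by rw [cechHMap_comp, ← hy, cechHMap_cδ, hg, map_zero]⟩

omit hS in
/-- Dying classes only depend on the sheafification. -/
theorem die_iff_of_isIso {P Q : Cᵒᵖ ⥤ AddCommGrpCat.{u}} (φ : P ⟶ Q)
    [IsIso ((presheafToSheaf J AddCommGrpCat.{u}).map φ)] (q : ℕ) : Die X J P q ↔ Die X J Q q := by
  let Sh := presheafToSheaf J AddCommGrpCat.{u}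
  let S₁ : ShortComplex (Cᵒᵖ ⥤ AddCommGrpCat.{u}) :=
    ShortComplex.mk (kernel.ι φ) (Abelian.coimage.π φ) (cokernel.condition _)
  let S₂ : ShortComplex (Cᵒᵖ ⥤ AddCommGrpCat.{u}) :=
    ShortComplex.mk (Abelian.factorThruCoimage φ) (cokernel.π (Abelian.factorThruCoimage φ))
      (cokernel.condition _)
  have h1 : S₁.ShortExact :=
    { exact := ShortComplex.exact_cokernel _
      mono_f := inferInstanceAs (Mono (kernel.ι φ))
      epi_g := inferInstanceAs (Epi (cokernel.π (kernel.ι φ))) }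
  have h2 : S₂.ShortExact :=
    { exact := ShortComplex.exact_cokernel _
      mono_f := inferInstanceAs (Mono (Abelian.factorThruCoimage φ))
      epi_g := inferInstanceAs (Epi (cokernel.π (Abelian.factorThruCoimage φ))) }
  have z1 : IsZero (Sh.obj S₁.X₁) := by
    haveI : Mono (Sh.map (kernel.ι φ)) := inferInstance
    have h : Sh.map (kernel.ι φ) = 0 := by
      rw [← cancel_mono (Sh.map φ), ← Sh.map_comp, kernel.condition, Sh.map_zero, zero_comp]
    exact IsZero.of_mono_eq_zero _ h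
  have z2 : IsZero (Sh.obj S₂.X₃) := by
    haveI : Epi (Sh.map (cokernel.π (Abelian.factorThruCoimage φ))) := inferInstance
    have h : Sh.map (cokernel.π (Abelian.factorThruCoimage φ)) = 0 := by
      have e : φ ≫ cokernel.π (Abelian.factorThruCoimage φ) = 0 :=
        (congrArg (· ≫ cokernel.π (Abelian.factorThruCoimage φ)) (Abelian.coimage.fac φ).symm).trans
          ((Category.assoc _ _ _).trans ((congrArg (Abelian.coimage.π φ ≫ ·) (cokernel.condition _)).trans
            comp_zero))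
      rw [← cancel_epi (Sh.map φ), ← Sh.map_comp, comp_zero, e]
      exact Sh.map_zero _ _
    exact IsZero.of_epi_eq_zero _ h
  exact (die_iff_of_left h1 z1 q).trans (die_iff_of_right h2 z2 q)

end Groth.Agent.H15Site.HyperBuild
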