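import Groth.Agent.H15Site.HyperOver

/-!
# Hypercoverings are exactly the locally fillable simplicial semi-representable objects
-/

set_option autoImplicit false
set_option linter.style.haveILetI false
set_option linter.unusedSectionVars false
set_option backward.isDefEq.respectTransparency false

universe u

open CategoryTheory CategoryTheory.Limits Opposite SimplexCategory
open scoped Simplicial

namespace Groth.Agent.H15Site.HyperBuild

open HyperFill HyperSite

variable {D : Type u} [SmallCategory D] (J : GrothendieckTopology D)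
  (X : SimplicialObject (Dᵒᵖ ⥤ Type u))

/-- The action of a simplicial operator on sections. -/
abbrev sm {a b : ℕ} (g : ⦋a⦌ ⟶ ⦋b⦌) {U : D} (x : sx X b U) : sx X a U := (X.map g.op).app (op U) x

variable {X}

lemma sm_id {b : ℕ} {U : D} (x : sx X b U) : sm X (𝟙 ⦋b⦌) x = x := by
  simp [sm]

lemma sm_sm {a b c : ℕ} (f : ⦋a⦌ ⟶ ⦋b⦌) (g : ⦋b⦌ ⟶ ⦋c⦌) {U : D} (x : sx X c U) :
    sm X f (sm X g x) = sm X (f ≫ g) x := by
  simp [sm]

lemma sm_rs {a b : ℕ} (g : ⦋a⦌ ⟶ ⦋b⦌) {U V : D} (v : V ⟶ U) (x : sx X b U) :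
    sm X g (rs v x) = rs v (sm X g x) :=
  ConcreteCategory.congr_hom ((X.map g.op).naturality v.op) x

lemma rs_id {b : ℕ} {U : D} (x : sx X b U) : rs (𝟙 U) x = x := by
  simp [rs]

variable (X)

/-- The faces of a sphere agree on intersections. -/
def Compat {n : ℕ} {U : D} (x : Fin (n + 2) → sx X n U) : Prop :=
  ∀ (m : ℕ) (_ : m ≤ n) (ψ ψ' : ⦋m⦌ ⟶ ⦋n⦌) (i j : Fin (n + 2)),
    ψ ≫ δ i = ψ' ≫ δ j → sm X ψ (x i) = sm X ψ' (x j)

/-- Every sphere locally has a filler. -/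
structure Fill : Prop where
  nonempty : ∀ U : D, ∃ R ∈ J U, ∀ ⦃V : D⦄ (v : V ⟶ U), R v → Nonempty (sx X 0 V)
  fill : ∀ (n : ℕ) (U : D) (x : Fin (n + 2) → sx X n U), Compat X x →
    ∃ R ∈ J U, ∀ ⦃V : D⦄ (v : V ⟶ U), R v → ∃ y : sx X (n + 1) V, ∀ i, dd i y = rs v (x i)

variable {J X}

theorem fill_of_locFill (h : LocFill J X) : Fill J X where
  nonempty := h.nonempty
  fill n U x hx := by
    match n, x, hx with
    | 0, x, _ =>
      obtain ⟨R, hR, hR'⟩ := h.zero U (x 0) (x 1)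
      refine ⟨R, hR, fun V v hv => ?_⟩
      obtain ⟨y, h0, h1⟩ := hR' v hv
      refine ⟨y, fun i => ?_⟩
      fin_cases i
      · exact h0
      · exact h1
    | p + 1, x, hx =>
      exact h.succ p U x fun i j hij => hx p (Nat.le_succ p) (δ i) (δ j) j.succ i.castSucc
        (δ_comp_δ hij)

/-- Any compatible family of faces is compatible in all dimensions. -/
theorem Compat.all {n : ℕ} {U : D} {x : Fin (n + 2) → sx X n U} (hx : Compat X x) {m : ℕ}
    (ψ ψ' : ⦋m⦌ ⟶ ⦋n⦌) (i j : Fin (n + 2)) (h : ψ ≫ δ i = ψ' ≫ δ j) :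
    sm X ψ (x i) = sm X ψ' (x j) := by
  haveI : IsSplitEpi (factorThruImage ψ) := isSplitEpi_of_epi _
  let e := factorThruImage ψ
  let r := section_ (factorThruImage ψ)
  have hr : r ≫ e = 𝟙 _ := IsSplitEpi.id _
  have hl : (image ψ).len ≤ n := SimplexCategory.len_le_of_mono (image.ι ψ)
  have h2 : (r ≫ ψ) ≫ δ i = (r ≫ ψ') ≫ δ j := by rw [Category.assoc, h, Category.assoc]
  have e1 : ψ = e ≫ r ≫ ψ := by
    have hι : r ≫ ψ = image.ι ψ := (congrArg (r ≫ ·) (image.fac ψ).symm).trans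
      ((Category.assoc _ _ _).symm.trans ((congrArg (· ≫ _) hr).trans (Category.id_comp _)))
    exact ((congrArg (e ≫ ·) hι).trans (image.fac ψ)).symm
  have e2 : ψ' = e ≫ r ≫ ψ' := by
    rw [← cancel_mono (δ j), Category.assoc, Category.assoc, ← h, ← Category.assoc r ψ, ← Category.assoc e, ← e1]
  rw [e1, e2]
  have := hx (image ψ).len hl (r ≫ ψ) (r ≫ ψ') i j h2
  rw [← sm_sm (X := X) (b := (image ψ).len) e, this]
  exact sm_sm (X := X) _ _ _

section Hom

variable {K : SimplicialObject (FormalCoproduct.{u} D)}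

lemma sm_XK {a b : ℕ} (g : ⦋a⦌ ⟶ ⦋b⦌) {U : D} (x : sx (XK K) b U) :
    sm (XK K) g x = x ≫ K.map g.op := rfl

lemma rs_XK {b : ℕ} {U V : D} (v : V ⟶ U) (x : sx (XK K) b U) :
    rs v x = (FormalCoproduct.incl D).map v ≫ x := rfl

variable (K) [∀ (n : ℕ) (F : (SimplexCategory.Truncated n)ᵒᵖ ⥤ FormalCoproduct.{u} D),
      (SimplexCategory.Truncated.inclusion n).op.HasRightKanExtension F]

/-- The standard simplex, constant at an object. -/
def simplex (n : ℕ) (U : D) : SimplicialObject (FormalCoproduct.{u} D) where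
  obj Δ := ⟨ULift.{u} (Δ.unop ⟶ ⦋n⦌), fun _ => U⟩
  map g := ⟨fun f => ⟨g.unop ≫ f.down⟩, fun _ => 𝟙 U⟩
  map_id Δ := by
    refine FormalCoproduct.hom_ext (funext fun f => by simp) fun f => ?_
    simp
  map_comp g g' := by
    refine FormalCoproduct.hom_ext (funext fun f => by simp) fun f => ?_
    simp

/-- The elements of the standard simplex. -/
def simplexPt {n : ℕ} {U : D} {Δ : SimplexCategoryᵒᵖ} (f : Δ.unop ⟶ ⦋n⦌) :
    (FormalCoproduct.incl D).obj U ⟶ (simplex n U).obj Δ :=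
  FormalCoproduct.Hom.fromIncl (Y := (simplex n U).obj Δ) ⟨f⟩ (𝟙 U)

lemma simplexPt_map {n : ℕ} {U : D} {Δ Δ' : SimplexCategoryᵒᵖ} (g : Δ ⟶ Δ') (f : Δ.unop ⟶ ⦋n⦌) :
    simplexPt (U := U) f ≫ (simplex n U).map g = simplexPt (g.unop ≫ f) := by
  refine homP_hom_ext _ _ (Sigma.ext rfl (heq_of_eq ?_))
  exact Category.comp_id _

lemma simplex_hom_ext {n : ℕ} {U : D} {Δ : SimplexCategoryᵒᵖ} {L : FormalCoproduct.{u} D}
    (a b : (simplex n U).obj Δ ⟶ L)
    (h : ∀ f : Δ.unop ⟶ ⦋n⦌, simplexPt f ≫ a = simplexPt f ≫ b) : a = b := by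
  refine (FormalCoproduct.hom_ext_iff' a b).2 fun f => ?_
  obtain ⟨h1, h2⟩ := (FormalCoproduct.hom_ext_iff' _ _).1 (h f.down) PUnit.unit
  refine ⟨h1, ?_⟩
  have h3 : (𝟙 U ≫ a.φ f) ≫ eqToHom _ = 𝟙 U ≫ b.φ f := h2
  rw [Category.assoc, Category.id_comp] at h3
  exact h3.trans (Category.id_comp _)

variable {K} in
/-- The map of simplicial objects of a simplex. -/
def classify {n : ℕ} {U : D} (a : (FormalCoproduct.incl D).obj U ⟶ K.obj (op ⦋n⦌)) : simplex n U ⟶ K where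
  app Δ := ⟨fun f => (a ≫ K.map f.down.op).f PUnit.unit, fun f => (a ≫ K.map f.down.op).φ PUnit.unit⟩
  naturality Δ Δ' g := by
    have h1 : ∀ (E : SimplexCategoryᵒᵖ) (e : E.unop ⟶ ⦋n⦌),
        simplexPt (U := U) e ≫ (⟨fun f => (a ≫ K.map f.down.op).f PUnit.unit,
          fun f => (a ≫ K.map f.down.op).φ PUnit.unit⟩ : (simplex n U).obj E ⟶ K.obj E) = a ≫ K.map e.op :=
      fun E e => homP_hom_ext _ _ (Sigma.ext rfl (heq_of_eq (Category.id_comp _)))
    refine simplex_hom_ext _ _ fun f => ?_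
    refine (Category.assoc _ _ _).symm.trans ?_
    refine (congrArg (fun t => t ≫ _) (simplexPt_map g f)).trans ?_
    refine (h1 Δ' _).trans ?_
    refine Eq.trans ?_ (Category.assoc _ _ _)
    refine Eq.trans ?_ (congrArg (fun t => t ≫ _) (h1 Δ f)).symm
    rw [Category.assoc, ← Functor.map_comp]
    rfl

lemma classify_pt {n : ℕ} {U : D} (a : (FormalCoproduct.incl D).obj U ⟶ K.obj (op ⦋n⦌))
    (Δ : SimplexCategoryᵒᵖ) (f : Δ.unop ⟶ ⦋n⦌) :
    simplexPt f ≫ (classify a).app Δ = a ≫ K.map f.op :=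
  homP_hom_ext _ _ (Sigma.ext rfl (heq_of_eq (Category.id_comp _)))

variable (n : ℕ)

/-- The coskeleton. -/
noncomputable abbrev Ck : SimplicialObject (FormalCoproduct.{u} D) :=
  (SimplicialObject.Truncated.cosk n).obj ((SimplicialObject.truncation n).obj K)

/-- The faces of a simplex of the coskeleton. -/
noncomputable def face {U : D} {m : ℕ} (a : (FormalCoproduct.incl D).obj U ⟶ (Ck K n).obj (op ⦋m⦌)) {k : ℕ}
    (hk : k ≤ n) (f : ⦋k⦌ ⟶ ⦋m⦌) : (FormalCoproduct.incl D).obj U ⟶ K.obj (op ⦋k⦌) :=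
  a ≫ (Ck K n).map f.op ≫
    ((SimplicialObject.coskAdj n).counit.app ((SimplicialObject.truncation n).obj K)).app (op ⟨⦋k⦌, hk⟩)

lemma face_map {U : D} {m : ℕ} (a : (FormalCoproduct.incl D).obj U ⟶ (Ck K n).obj (op ⦋m⦌)) {k l : ℕ}
    (hk : k ≤ n) (hl : l ≤ n) (g : ⦋l⦌ ⟶ ⦋k⦌) (f : ⦋k⦌ ⟶ ⦋m⦌) :
    face K n a hk f ≫ K.map g.op = face K n a hl (g ≫ f) := by
  have h := ((SimplicialObject.coskAdj n).counit.app ((SimplicialObject.truncation n).obj K)).naturality
    (SimplexCategory.Truncated.Hom.tr g hl hk).op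
  simp only [face, Category.assoc]
  refine congrArg (a ≫ ·) ?_
  refine (congrArg ((Ck K n).map f.op ≫ ·) h.symm).trans ?_
  refine (Category.assoc _ _ _).symm.trans ?_
  refine congrArg (· ≫ _) ?_
  exact ((Ck K n).map_comp _ _).symm

lemma cosk_ext {U : D} {m : ℕ} (a b : (FormalCoproduct.incl D).obj U ⟶ (Ck K n).obj (op ⦋m⦌))
    (h : ∀ (k : ℕ) (hk : k ≤ n) (f : ⦋k⦌ ⟶ ⦋m⦌), face K n a hk f = face K n b hk f) : a = b := by
  have key : classify (K := Ck K n) a = classify (K := Ck K n) b := by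
    refine (((SimplicialObject.coskAdj n).homEquiv _ _).symm).injective ?_
    rw [Adjunction.homEquiv_counit, Adjunction.homEquiv_counit]
    refine NatTrans.ext (funext fun Δ => ?_)
    obtain ⟨⟨Δ, hΔ⟩⟩ := Δ
    induction Δ using SimplexCategory.rec with | _ k
    refine simplex_hom_ext (Δ := op ⦋k⦌) _ _ fun f => ?_
    have e : ∀ c : (FormalCoproduct.incl D).obj U ⟶ (Ck K n).obj (op ⦋m⦌),
        simplexPt (Δ := op ⦋k⦌) f ≫ (classify (K := Ck K n) c).app (op ⦋k⦌) ≫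
          ((SimplicialObject.coskAdj n).counit.app ((SimplicialObject.truncation n).obj K)).app (op ⟨⦋k⦌, hΔ⟩) =
        face K n c hΔ f := fun c =>
      (Category.assoc _ _ _).symm.trans ((congrArg (· ≫ _) (classify_pt (Ck K n) c (op ⦋k⦌) f)).trans
        (Category.assoc _ _ _))
    exact (e a).trans ((h k hΔ f).trans (e b).symm)
  have := congrArg (fun t => simplexPt (𝟙 ⦋m⦌) ≫ t.app (op ⦋m⦌)) key
  simp only [classify_pt, op_id, CategoryTheory.Functor.map_id, Category.comp_id] at this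
  exact this

lemma unit_face {U : D} {m : ℕ} (y : sx (XK K) m U) {k : ℕ} (hk : k ≤ n) (f : ⦋k⦌ ⟶ ⦋m⦌) :
    face K n (y ≫ ((SimplicialObject.coskAdj n).unit.app K).app (op ⦋m⦌)) hk f = y ≫ K.map f.op := by
  have h1 := ((SimplicialObject.coskAdj n).unit.app K).naturality f.op
  have h2 : ((SimplicialObject.coskAdj n).unit.app K).app (op ⦋k⦌) ≫
      ((SimplicialObject.coskAdj n).counit.app ((SimplicialObject.truncation n).obj K)).app (op ⟨⦋k⦌, hk⟩) =
        𝟙 _ :=
    congr_app ((SimplicialObject.coskAdj n).left_triangle_components K) (op ⟨⦋k⦌, hk⟩)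
  simp only [face, Category.assoc]
  refine congrArg (y ≫ ·) ?_
  refine (Category.assoc _ _ _).symm.trans ((congrArg (· ≫ _) h1.symm).trans ?_)
  exact (Category.assoc _ _ _).trans ((congrArg (K.map f.op ≫ ·) h2).trans (Category.comp_id _))

lemma exists_eq_comp_δ {n k : ℕ} (hk : k ≤ n) (f : ⦋k⦌ ⟶ ⦋n + 1⦌) :
    ∃ (i : Fin (n + 2)) (ψ : ⦋k⦌ ⟶ ⦋n⦌), f = ψ ≫ δ i := by
  refine eq_comp_δ_of_not_surjective f fun hs => ?_
  have := Fintype.card_le_of_surjective _ hs
  simp only [Fintype.card_fin, SimplexCategory.len_mk] at this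
  omega

theorem isSRCovering_unit (h : Fill J (XK K)) :
    Hyper.IsSRCovering J (((SimplicialObject.coskAdj n).unit.app K).app (op ⦋n + 1⦌)) := by
  intro j
  let U := ((Ck K n).obj (op ⦋n + 1⦌)).obj j
  let a : (FormalCoproduct.incl D).obj U ⟶ (Ck K n).obj (op ⦋n + 1⦌) := FormalCoproduct.Hom.fromIncl j (𝟙 U)
  let x : Fin (n + 2) → sx (XK K) n U := fun i => face K n a le_rfl (δ i)
  have hx : Compat (XK K) x := fun m hm ψ ψ' i i' hψ => by
    rw [sm_XK, sm_XK, face_map K n a le_rfl hm, face_map K n a le_rfl hm, hψ]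
  obtain ⟨R, hR, hR'⟩ := h.fill n U x hx
  refine J.superset_covering (fun V v hv => ?_) hR
  obtain ⟨y, hy⟩ := hR' v hv
  have e : y ≫ ((SimplicialObject.coskAdj n).unit.app K).app (op ⦋n + 1⦌) = (FormalCoproduct.incl D).map v ≫ a := by
    refine cosk_ext K n _ _ fun k hk f => ?_
    obtain ⟨i, ψ, rfl⟩ := exists_eq_comp_δ hk f
    rw [unit_face, op_comp, Functor.map_comp, ← Category.assoc, show y ≫ K.map (δ i).op = rs v (x i) from hy i,
      rs_XK, Category.assoc, ← face_map K n ((FormalCoproduct.incl D).map v ≫ a) le_rfl hk ψ (δ i)]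
    simp only [x, face, Category.assoc]
  obtain ⟨e1, e2⟩ := (FormalCoproduct.hom_ext_iff' _ _).1 e PUnit.unit
  have e1' : (((SimplicialObject.coskAdj n).unit.app K).app (op ⦋n + 1⦌)).f (y.f PUnit.unit) = j := e1
  refine ⟨_, y.φ PUnit.unit, _, Presieve.ofArrows.mk (⟨y.f PUnit.unit, e1'⟩ : {i // _ = j}), ?_⟩
  simpa [a] using e2.trans (Category.comp_id v)

end Hom

section Over

variable {C : Type u} [SmallCategory C] {J : GrothendieckTopology C} {X : C}
  {K : SimplicialObject (FormalCoproduct.{u} (Over X))}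
  [∀ (n : ℕ) (F : (SimplexCategory.Truncated n)ᵒᵖ ⥤ FormalCoproduct.{u} (Over X)),
      (SimplexCategory.Truncated.inclusion n).op.HasRightKanExtension F]

theorem fill_of_isHypercovering (hK : Hyper.IsHypercovering J X K) : Fill (J.over X) (XK K) :=
  fill_of_locFill (HyperOver.locFill J X K hK)

theorem isHypercovering_of_fill (h : Fill (J.over X) (XK K)) : Hyper.IsHypercovering J X K := by
  refine ⟨?_, fun n => isSRCovering_unit K n h⟩
  obtain ⟨R, hR, hR'⟩ := h.nonempty (Over.mk (𝟙 X))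
  refine J.superset_covering ?_ ((J.mem_over_iff _).1 hR)
  intro V v hv
  rw [Sieve.overEquiv_iff] at hv
  obtain ⟨y⟩ := hR' _ hv
  refine ⟨_, (y.φ PUnit.unit).left, _, Presieve.ofArrows.mk (y.f PUnit.unit), ?_⟩
  exact (Over.w (y.φ PUnit.unit)).trans (Category.comp_id v)

end Over

end Groth.Agent.H15Site.HyperBuild
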