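import Groth.Agent.H15Site.HyperBuild.Spec
import Mathlib.CategoryTheory.Limits.Constructions.LimitsOfProductsAndEqualizers

/-!
# Hypercoverings by finitely many objects of a given set
-/

set_option autoImplicit false
set_option linter.style.haveILetI false
set_option linter.unusedSectionVars false
set_option backward.isDefEq.respectTransparency false

universe u

open CategoryTheory CategoryTheory.Limits Opposite SimplexCategory
open scoped Simplicial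

namespace Groth.Agent.H15Site.HyperBuild

open HyperFill HyperSite
open scoped Classical

variable {D : Type u} [SmallCategory D] (J : GrothendieckTopology D) (B : Set D)

/-- Every object is covered by finitely many objects of `B`. -/
def FinCovers : Prop :=
  ∀ U : D, ∃ (ι : Type u) (_ : Finite ι) (W : ι → D) (b : ∀ a, W a ⟶ U),
    Sieve.ofArrows W b ∈ J U ∧ ∀ a, W a ∈ B

/-- A family of generators over a tuple of faces. -/
structure Gens {n : ℕ} (d : Fin (n + 2) → Diag (ptS D) B ⦋n⦌) (G : Set (Diag (ptS D) B ⦋n + 1⦌)) : Prop where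
  finite : G.Finite
  face : ∀ E ∈ G, ∀ i, E.map (δ i) = d i
  cover : ∀ (U : D) (φ : ∀ i, U ⟶ (d i).top),
    (∀ (k : ℕ) (_ : k ≤ n) (ψ ψ' : ⦋k⦌ ⟶ ⦋n⦌) (i j : Fin (n + 2)), ψ ≫ δ i = ψ' ≫ δ j →
      El.map (⟨d i, φ i⟩ : El (ptS D) B ⦋n⦌ U) ψ = El.map ⟨d j, φ j⟩ ψ') →
    ∃ R ∈ J U, ∀ ⦃V : D⦄ (v : V ⟶ U), R v → ∃ E : El (ptS D) B ⦋n + 1⦌ V, E.1 ∈ G ∧
      ∀ i, E.map (δ i) = ⟨d i, v ≫ φ i⟩

variable {J B}

variable (B) in
/-- The stages of the construction. -/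
def stage (G0 : Set (Diag (ptS D) B ⦋0⦌)) (G : ∀ n, (Fin (n + 2) → Diag (ptS D) B ⦋n⦌) → Set (Diag (ptS D) B ⦋n + 1⦌)) :
    ℕ → ∀ m : SimplexCategory, Set (Diag (ptS D) B m)
  | 0 => fun m => (fun p : Diag (ptS D) B ⦋0⦌ × (m ⟶ ⦋0⦌) => p.1.map p.2) '' (G0 ×ˢ Set.univ)
  | n + 1 => fun m => stage G0 G n m ∪
      ⋃ d ∈ {d : Fin (n + 2) → Diag (ptS D) B ⦋n⦌ | ∀ i, d i ∈ stage G0 G n ⦋n⦌},
        (fun p : Diag (ptS D) B ⦋n + 1⦌ × (m ⟶ ⦋n + 1⦌) => p.1.map p.2) '' (G n d ×ˢ Set.univ)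

section Stage

variable {G0 : Set (Diag (ptS D) B ⦋0⦌)} {G : ∀ n, (Fin (n + 2) → Diag (ptS D) B ⦋n⦌) → Set (Diag (ptS D) B ⦋n + 1⦌)}

lemma stage_closed : ∀ (n : ℕ) {m m' : SimplexCategory} (g : m' ⟶ m) (d : Diag (ptS D) B m),
    d ∈ stage B G0 G n m → d.map g ∈ stage B G0 G n m'
  | 0, _, _, g, _, ⟨⟨e, θ⟩, he, rfl⟩ => ⟨⟨e, g ≫ θ⟩, ⟨he.1, trivial⟩, rfl⟩
  | n + 1, _, _, g, d, h => by
    rcases h with h | h
    · exact Or.inl (stage_closed n g d h)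
    · simp only [Set.mem_iUnion] at h
      obtain ⟨t, ht, ⟨e, θ⟩, he, rfl⟩ := h
      refine Or.inr ?_
      simp only [Set.mem_iUnion]
      exact ⟨t, ht, ⟨e, g ≫ θ⟩, ⟨he.1, trivial⟩, rfl⟩

lemma stage_mono {n N : ℕ} (h : n ≤ N) (m : SimplexCategory) : stage B G0 G n m ⊆ stage B G0 G N m := by
  induction h with
  | refl => exact subset_rfl
  | step _ ih => exact ih.trans fun d hd => Or.inl hd

variable (hG : ∀ n d, Gens J B d (G n d))
include hG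

lemma stage_finite (hG0 : G0.Finite) : ∀ (n : ℕ) (m : SimplexCategory), (stage B G0 G n m).Finite
  | 0, m => (hG0.prod Set.finite_univ).image _
  | n + 1, m => by
    refine (stage_finite hG0 n m).union (Set.Finite.biUnion ?_ fun d _ =>
      ((hG n d).finite.prod Set.finite_univ).image _)
    exact Set.Finite.pi' fun _ => stage_finite hG0 n ⦋n⦌

lemma stage_stable {N : ℕ} {m : SimplexCategory} (h : m.len ≤ N) :
    stage B G0 G N m ⊆ stage B G0 G m.len m := by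
  induction N with
  | zero =>
    rw [Nat.le_zero.1 h]
  | succ N ih =>
    rcases eq_or_lt_of_le h with h | h
    · rw [h]
    · refine fun d hd => ih (Nat.lt_succ_iff.1 h) ?_
      rcases hd with hd | hd
      · exact hd
      · simp only [Set.mem_iUnion] at hd
        obtain ⟨t, ht, ⟨e, θ⟩, he, rfl⟩ := hd
        have hθ : ¬ Function.Surjective θ.toOrderHom := fun hs => by
          have := Fintype.card_le_of_surjective _ hs
          simp only [Fintype.card_fin, SimplexCategory.len_mk] at this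
          omega
        obtain ⟨i, ψ, rfl⟩ := eq_comp_δ_of_not_surjective θ hθ
        change e.map (ψ ≫ δ i) ∈ _
        rw [← Diag.map_map, (hG N t).face e he.1 i]
        exact stage_closed N ψ _ (ht i)

end Stage

variable (hB : FinCovers J B) [HasFiniteLimits D]
include hB

theorem exists_gens {n : ℕ} (d : Fin (n + 2) → Diag (ptS D) B ⦋n⦌) : ∃ G, Gens J B d G := by
  by_cases hd : ∀ (k : ℕ) (_ : k ≤ n) (ψ ψ' : ⦋k⦌ ⟶ ⦋n⦌) (i j : Fin (n + 2)), ψ ≫ δ i = ψ' ≫ δ j →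
      (d i).map ψ = (d j).map ψ'
  swap
  · exact ⟨∅, Set.finite_empty, fun E hE => absurd hE (Set.notMem_empty E),
      fun U φ h => absurd (fun k hk ψ ψ' i j e => congrArg Sigma.fst (h k hk ψ ψ' i j e)) hd⟩
  -- the universal sphere
  let τ := {p : Σ k : Fin (n + 1), ((⦋k.val⦌ ⟶ ⦋n⦌) × Fin (n + 2)) × ((⦋k.val⦌ ⟶ ⦋n⦌) × Fin (n + 2)) //
    p.2.1.1 ≫ δ p.2.1.2 = p.2.2.1 ≫ δ p.2.2.2}
  let F : τ → D := fun p => ((d p.1.2.1.2).map p.1.2.1.1).top
  have hk : ∀ p : τ, p.1.1.val ≤ n := fun p => Nat.lt_succ_iff.1 p.1.1.isLt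
  let l : (∏ᶜ fun i => (d i).top) ⟶ ∏ᶜ F := Pi.lift fun p =>
    Pi.π (fun i => (d i).top) p.1.2.1.2 ≫ (d p.1.2.1.2).hom p.1.2.1.1 (𝟙 _)
  let r : (∏ᶜ fun i => (d i).top) ⟶ ∏ᶜ F := Pi.lift fun p =>
    (Pi.π (fun i => (d i).top) p.1.2.2.2 ≫ (d p.1.2.2.2).hom p.1.2.2.1 (𝟙 _)) ≫
      eqToHom (congrArg Diag.top (hd _ (hk p) _ _ _ _ p.2).symm)
  let U₀ := equalizer l r
  let π₀ : ∀ i, U₀ ⟶ (d i).top := fun i => equalizer.ι l r ≫ Pi.π (fun i => (d i).top) i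
  obtain ⟨ι, hι, W, b, hcov, hW⟩ := hB U₀
  let x : Fin (n + 2) → sx (XK (L (Sub.full (ptS D) B))) n U₀ := fun i =>
    ofEl (Sub.full (ptS D) B) ⟨d i, π₀ i⟩ trivial
  have hx : Compat (XK (L (Sub.full (ptS D) B))) x := by
    intro k hk' ψ ψ' i j e
    refine toEl_injective _ ?_
    refine Sigma.ext (hd k hk' ψ ψ' i j e) ?_
    have h1 : (equalizer.ι l r ≫ l) ≫ Pi.π F ⟨⟨⟨k, Nat.lt_succ_of_le hk'⟩, (ψ, i), (ψ', j)⟩, e⟩ =
        (equalizer.ι l r ≫ r) ≫ Pi.π F ⟨⟨⟨k, Nat.lt_succ_of_le hk'⟩, (ψ, i), (ψ', j)⟩, e⟩ := by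
      rw [equalizer.condition]
    simp only [l, r, Category.assoc, Pi.lift_π] at h1
    change HEq (π₀ i ≫ (d i).hom ψ (𝟙 _)) (π₀ j ≫ (d j).hom ψ' (𝟙 _))
    refine (heq_of_eq ((Category.assoc _ _ _).trans h1)).trans ?_
    simp only [← Category.assoc]
    exact comp_eqToHom_heq _ _
  have hE : ∀ a : ι, ∃ E : El (ptS D) B ⦋n + 1⦌ (W a), ∀ i, E.map (δ i) = ⟨d i, b a ≫ π₀ i⟩ := by
    intro a
    refine exists_el (hW a) (fun i => (⟨d i, b a ≫ π₀ i⟩ : El (ptS D) B ⦋n⦌ (W a))) ?_ PUnit.unit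
      fun i => rfl
    intro m ψ ψ' i j e
    induction m using SimplexCategory.rec with | _ m
    exact congrArg (toEl _) ((sm_rs (X := XK (L (Sub.full (ptS D) B))) ψ (b a) (x i)).trans
      ((congrArg (rs (b a)) (Compat.all hx ψ ψ' i j e)).trans
        (sm_rs (X := XK (L (Sub.full (ptS D) B))) ψ' (b a) (x j)).symm))
  choose E hE using hE
  refine ⟨Set.range fun a => (E a).1, Set.finite_range _, ?_, fun U φ hφ => ?_⟩
  · rintro _ ⟨a, rfl⟩ i
    exact congrArg Sigma.fst (hE a i)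
  have hlr : Pi.lift φ ≫ l = Pi.lift φ ≫ r := by
    refine Pi.hom_ext _ _ fun p => ?_
    simp only [l, r, Category.assoc, Pi.lift_π, Pi.lift_π_assoc]
    have h := hφ _ (hk p) _ _ _ _ p.2
    have key : ∀ {m : SimplexCategory} (y y' : El (ptS D) B m U) (h : y = y') (h' : y'.1.top = y.1.top),
        y.2 = y'.2 ≫ eqToHom h' := by
      rintro m y y' rfl h'; simp
    exact (key _ _ h (congrArg Diag.top (congrArg Sigma.fst h).symm)).trans (Category.assoc _ _ _)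
  let h := equalizer.lift (Pi.lift φ) hlr
  refine ⟨_, J.pullback_stable h hcov, fun V v hv => ?_⟩
  obtain ⟨W', c, b', hb', hfac⟩ := hv
  obtain ⟨a⟩ := hb'
  refine ⟨(E a).res c, ⟨a, rfl⟩, fun i => ?_⟩
  have h2 : (E a).map (δ i) = (⟨d i, b a ≫ π₀ i⟩ : El (ptS D) B ⦋n⦌ (W a)) := hE a i
  have h3 : ((E a).res c).map (δ i) = ((E a).map (δ i)).res c :=
    Sigma.ext rfl (heq_of_eq (Category.assoc _ _ _))
  rw [h3, h2]
  refine Sigma.ext rfl (heq_of_eq ?_)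
  change c ≫ b a ≫ π₀ i = v ≫ φ i
  rw [← Category.assoc c, hfac]
  simp [π₀, h]

theorem exists_gens_zero : ∃ G : Set (Diag (ptS D) B ⦋0⦌), G.Finite ∧
    ∀ U : D, ∃ R ∈ J U, ∀ ⦃V : D⦄ (v : V ⟶ U), R v → ∃ E : El (ptS D) B ⦋0⦌ V, E.1 ∈ G := by
  obtain ⟨ι, hι, W, b, hcov, hW⟩ := hB (⊤_ D)
  let E := fun a => (exists_el_zero (P := ptS D) (hW a) PUnit.unit).some
  refine ⟨Set.range fun a => (E a).1, Set.finite_range _, fun U => ?_⟩
  refine ⟨_, J.pullback_stable (terminal.from U) hcov, fun V v hv => ?_⟩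
  obtain ⟨W', c, b', hb', hfac⟩ := hv
  obtain ⟨a⟩ := hb'
  exact ⟨(E a).res c, a, rfl⟩

/-- A hypercovering with finitely many members in each degree, all in `B`. -/
theorem exists_finite_fill : ∃ K : SimplicialObject (FormalCoproduct.{u} D), Fill J (XK K) ∧
    ∀ n : ℕ, Finite (K.obj (op ⦋n⦌)).I ∧ ∀ i, (K.obj (op ⦋n⦌)).obj i ∈ B := by
  obtain ⟨G0, hG0, hG0'⟩ := exists_gens_zero hB
  choose G hG using fun n (d : Fin (n + 2) → Diag (ptS D) B ⦋n⦌) => exists_gens hB d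
  let S : Sub (ptS D) B := ⟨fun m d => d ∈ stage B G0 G m.len m, fun {m m'} g d hd => by
    have h := stage_closed m.len g d hd
    rcases le_total m'.len m.len with hl | hl
    · exact stage_stable hG hl h
    · exact stage_mono hl m' h⟩
  refine ⟨L S, ⟨fun U => ?_, fun n U x hx => ?_⟩, fun n => ⟨?_, L_obj_mem S (op ⦋n⦌)⟩⟩
  · obtain ⟨R, hR, hR'⟩ := hG0' U
    refine ⟨R, hR, fun V v hv => ?_⟩
    obtain ⟨E, hE⟩ := hR' v hv
    exact ⟨ofEl S E ⟨⟨E.1, 𝟙 _⟩, ⟨hE, trivial⟩, Diag.map_id _⟩⟩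
  · let d : Fin (n + 2) → Diag (ptS D) B ⦋n⦌ := fun i => (toEl S (x i)).1
    obtain ⟨R, hR, hR'⟩ := (hG n d).cover U (fun i => (toEl S (x i)).2)
      (fun k hk ψ ψ' i j e => congrArg (toEl S) (hx k hk ψ ψ' i j e))
    refine ⟨R, hR, fun V v hv => ?_⟩
    obtain ⟨E, hE, hE'⟩ := hR' v hv
    refine ⟨ofEl S E ?_, fun i => toEl_injective S (hE' i)⟩
    refine Or.inr ?_
    simp only [Set.mem_iUnion]
    exact ⟨d, fun i => ((x i).f PUnit.unit).2, ⟨E.1, 𝟙 _⟩, ⟨hE, trivial⟩, Diag.map_id _⟩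
  · exact (stage_finite hG hG0 n ⦋n⦌).to_subtype

end Groth.Agent.H15Site.HyperBuild
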