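import Groth.Agent.H15Site.HyperBuild.Fill

/-!
# Locally fillable simplicial presheaves: local extension of maps out of nerves of finite posets
-/

set_option autoImplicit false
set_option linter.style.haveILetI false
set_option linter.unusedSectionVars false
set_option backward.isDefEq.respectTransparency false

universe u

open CategoryTheory Opposite SimplexCategory
open scoped Simplicial

namespace Groth.Agent.H15Site.HyperBuild

open HyperFill
open scoped Classical

variable {D : Type u} [SmallCategory D] {J : GrothendieckTopology D}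
  {X : SimplicialObject (Dᵒᵖ ⥤ Type u)}

section

variable {Q : Type*} [PartialOrder Q]

/-- Precomposition of a chain with a simplicial operator. -/
def pre {k l : ℕ} (f : Fin (l + 1) →o Q) (g : ⦋k⦌ ⟶ ⦋l⦌) : Fin (k + 1) →o Q :=
  f.comp g.toOrderHom

lemma pre_pre {j k l : ℕ} (f : Fin (l + 1) →o Q) (g : ⦋k⦌ ⟶ ⦋l⦌) (g' : ⦋j⦌ ⟶ ⦋k⦌) :
    pre (pre f g) g' = pre f (g' ≫ g) := rfl

lemma pre_id {l : ℕ} (f : Fin (l + 1) →o Q) : pre f (𝟙 ⦋l⦌) = f := rfl

/-- A natural family on a set of chains. -/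
def IsNat {U : D} {A : ∀ l, (Fin (l + 1) →o Q) → Prop}
    (h : ∀ (l : ℕ) (f : Fin (l + 1) →o Q), A l f → sx X l U) : Prop :=
  ∀ (k l : ℕ) (g : ⦋k⦌ ⟶ ⦋l⦌) (f : Fin (l + 1) →o Q) (hf : A l f) (hfg : A k (pre f g)),
    sm X g (h l f hf) = h k (pre f g) hfg

lemma mem_of_forall_injective {A : ∀ l, (Fin (l + 1) →o Q) → Prop}
    (hA : ∀ (k l : ℕ) (g : ⦋k⦌ ⟶ ⦋l⦌) (f : Fin (l + 1) →o Q), A l f → A k (pre f g))
    (hi : ∀ (l : ℕ) (f : Fin (l + 1) →o Q), Function.Injective f → A l f) :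
    ∀ (l : ℕ) (f : Fin (l + 1) →o Q), A l f := by
  intro l
  induction l with
  | zero =>
    intro f
    exact hi 0 f fun a b _ => Subsingleton.elim (α := Fin 1) a b
  | succ l ih =>
    intro f
    by_cases hf : Function.Injective f
    · exact hi _ f hf
    · obtain ⟨j, hj⟩ : ∃ j : Fin (l + 1), f j.castSucc = f j.succ := by
        simp only [Function.Injective, not_forall] at hf
        obtain ⟨a, b, hab, hne⟩ := hf
        wlog hlt : a < b generalizing a b
        · exact this b a hab.symm (Ne.symm hne) (lt_of_le_of_ne (not_lt.1 hlt) (Ne.symm hne))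
        refine ⟨⟨a.val, by have := b.isLt; have : a.val < b.val := hlt; omega⟩,
          le_antisymm (f.monotone (Fin.castSucc_le_succ _)) ?_⟩
        refine (f.monotone (show _ ≤ b from ?_)).trans_eq hab.symm
        exact Nat.succ_le_of_lt (show a.val < b.val from hlt)
      have e : f = pre (pre f (δ j.succ)) (σ j) := by
        refine OrderHom.ext _ _ (funext fun x => ?_)
        change f x = f (j.succ.succAbove (j.predAbove x))
        by_cases hx : x = j.succ
        · subst hx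
          rw [Fin.predAbove_succ_self, Fin.succAbove_succ_self]
          exact hj.symm
        · rw [Fin.succ_succAbove_predAbove hx]
      rw [e]
      exact hA _ _ _ _ (ih _)

variable (hX : Fill J X)
include hX

/-- One new chain can be added, locally. -/
theorem exists_extension_step {U : D} {A : ∀ l, (Fin (l + 1) →o Q) → Prop}
    (hA : ∀ (k l : ℕ) (g : ⦋k⦌ ⟶ ⦋l⦌) (f : Fin (l + 1) →o Q), A l f → A k (pre f g))
    (h : ∀ (l : ℕ) (f : Fin (l + 1) →o Q), A l f → sx X l U) (hh : IsNat h)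
    {d : ℕ} (ι : Fin (d + 1) →o Q) (hι : Function.Injective ι) (hι' : ¬ A d ι)
    (hb : ∀ (k : ℕ) (g : ⦋k⦌ ⟶ ⦋d⦌), ¬ Function.Surjective g.toOrderHom → A k (pre ι g)) :
    ∃ R ∈ J U, ∀ ⦃V : D⦄ (v : V ⟶ U), R v →
      ∃ h' : ∀ (l : ℕ) (f : Fin (l + 1) →o Q), (A l f ∨ ∃ e : ⦋l⦌ ⟶ ⦋d⦌, pre ι e = f) → sx X l V,
        IsNat h' ∧ ∀ (l : ℕ) (f : Fin (l + 1) →o Q) (hf : A l f),
          h' l f (Or.inl hf) = rs v (h l f hf) := by
  have hcongr : ∀ (l : ℕ) (f f' : Fin (l + 1) →o Q) (hf : A l f) (hf' : A l f'), f = f' →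
      h l f hf = h l f' hf' := by
    intro l f f' hf hf' e; subst e; rfl
  -- a filler of the boundary
  have hy : ∃ R ∈ J U, ∀ ⦃V : D⦄ (v : V ⟶ U), R v → ∃ y : sx X d V,
      ∀ (k : ℕ) (g : ⦋k⦌ ⟶ ⦋d⦌) (hg : ¬ Function.Surjective g.toOrderHom),
        sm X g y = rs v (h k (pre ι g) (hb k g hg)) := by
    cases d with
    | zero =>
      obtain ⟨R, hR, hR'⟩ := hX.nonempty U
      refine ⟨R, hR, fun V v hv => ?_⟩
      obtain ⟨y⟩ := hR' v hv
      exact ⟨y, fun k g hg => absurd (fun b => ⟨0, Subsingleton.elim (α := Fin 1) _ _⟩) hg⟩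
    | succ p =>
      have hδ : ∀ i : Fin (p + 2), A p (pre ι (δ i)) := fun i =>
        hb p (δ i) fun hs => by
          have := Fintype.card_le_of_surjective _ hs
          simp only [Fintype.card_fin, SimplexCategory.len_mk] at this
          omega
      have hx : Compat X (fun i => h p (pre ι (δ i)) (hδ i)) := fun m _ ψ ψ' i j e => by
        rw [hh _ _ ψ _ (hδ i) (hA _ _ ψ _ (hδ i)), hh _ _ ψ' _ (hδ j) (hA _ _ ψ' _ (hδ j))]
        exact hcongr _ _ _ _ _ (by rw [pre_pre, pre_pre, e])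
      obtain ⟨R, hR, hR'⟩ := hX.fill p U _ hx
      refine ⟨R, hR, fun V v hv => ?_⟩
      obtain ⟨y, hy⟩ := hR' v hv
      refine ⟨y, fun k g hg => ?_⟩
      obtain ⟨i, ψ, rfl⟩ := eq_comp_δ_of_not_surjective g hg
      rw [← sm_sm, show sm X (δ i) y = rs v (h p (pre ι (δ i)) (hδ i)) from hy i, sm_rs,
        hh _ _ ψ _ (hδ i) (hA _ _ ψ _ (hδ i))]
      exact congrArg (rs v) (hcongr _ _ _ _ _ (pre_pre ι (δ i) ψ))
  obtain ⟨R, hR, hR'⟩ := hy
  refine ⟨R, hR, fun V v hv => ?_⟩
  obtain ⟨y, hy⟩ := hR' v hv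
  let h' : ∀ (l : ℕ) (f : Fin (l + 1) →o Q), (A l f ∨ ∃ e : ⦋l⦌ ⟶ ⦋d⦌, pre ι e = f) → sx X l V :=
    fun l f hf => if hA' : A l f then rs v (h l f hA') else sm X (hf.resolve_left hA').choose y
  have hold : ∀ (l : ℕ) (f : Fin (l + 1) →o Q) (hf : A l f) (hf'), h' l f hf' = rs v (h l f hf) :=
    fun l f hf hf' => dif_pos hf
  have hnew : ∀ (l : ℕ) (e : ⦋l⦌ ⟶ ⦋d⦌) (f : Fin (l + 1) →o Q) (he : pre ι e = f) (hf'),
      h' l f hf' = sm X e y := by
    intro l e f he hf'
    subst he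
    by_cases hA' : A l (pre ι e)
    · rw [hold l _ hA' hf']
      by_cases he : Function.Surjective e.toOrderHom
      · haveI : Epi e := SimplexCategory.epi_iff_surjective.2 he
        haveI : IsSplitEpi e := isSplitEpi_of_epi _
        refine absurd ?_ hι'
        have := hA _ _ (section_ e) _ hA'
        rwa [pre_pre, IsSplitEpi.id, pre_id] at this
      · exact (hy l e he).symm
    · rw [show h' l (pre ι e) hf' = sm X (hf'.resolve_left hA').choose y from dif_neg hA']
      have hc := (hf'.resolve_left hA').choose_spec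
      refine congrArg (fun t => sm X t y) (SimplexCategory.Hom.ext _ _ (OrderHom.ext _ _
        (funext fun x => hι ?_)))
      exact DFunLike.congr_fun hc x
  refine ⟨h', fun k l g f hf hfg => ?_, fun l f hf => hold l f hf (Or.inl hf)⟩
  rcases hf with hf1 | ⟨e, rfl⟩
  · rw [hold l f hf1 (Or.inl hf1), hold k _ (hA _ _ g _ hf1) hfg, sm_rs, hh _ _ g f hf1 (hA _ _ g _ hf1)]
  · rw [hnew l e _ rfl (Or.inr ⟨e, rfl⟩), hnew k (g ≫ e) _ (pre_pre ι e g).symm hfg, sm_sm]

/-- A natural family on a closed set of chains extends, locally, to all chains. -/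
theorem exists_extension [Finite Q] {U : D} {A : ∀ l, (Fin (l + 1) →o Q) → Prop}
    (hA : ∀ (k l : ℕ) (g : ⦋k⦌ ⟶ ⦋l⦌) (f : Fin (l + 1) →o Q), A l f → A k (pre f g))
    (h : ∀ (l : ℕ) (f : Fin (l + 1) →o Q), A l f → sx X l U) (hh : IsNat h) :
    ∃ R ∈ J U, ∀ ⦃V : D⦄ (v : V ⟶ U), R v →
      ∃ H : ∀ (l : ℕ), (Fin (l + 1) →o Q) → sx X l V,
        (∀ (k l : ℕ) (g : ⦋k⦌ ⟶ ⦋l⦌) (f : Fin (l + 1) →o Q), sm X g (H l f) = H k (pre f g)) ∧
        ∀ (l : ℕ) (f : Fin (l + 1) →o Q) (hf : A l f), H l f = rs v (h l f hf) := by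
  letI := Fintype.ofFinite Q
  haveI : ∀ n : ℕ, Finite (Fin n →o Q) := fun n =>
    Finite.of_injective (fun f => (f : Fin n → Q)) DFunLike.coe_injective
  let miss : (∀ l, (Fin (l + 1) →o Q) → Prop) → Finset (Σ d : Fin (Fintype.card Q), Fin (d.1 + 1) →o Q) :=
    fun A => (Set.toFinite {p | ¬ A p.1.1 p.2}).toFinset
  induction hN : (miss A).card using Nat.strong_induction_on generalizing U A with
  | _ N ih =>
    by_cases hall : ∀ (l : ℕ) (f : Fin (l + 1) →o Q), Function.Injective f → A l f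
    · have hA' := mem_of_forall_injective hA hall
      exact ⟨⊤, J.top_mem U, fun V v _ => ⟨fun l f => rs v (h l f (hA' l f)),
        fun k l g f => by rw [sm_rs, hh _ _ g f (hA' l f) (hA' k _)], fun l f hf => rfl⟩⟩
    · have hex : ∃ (d : ℕ) (ι : Fin (d + 1) →o Q), Function.Injective ι ∧ ¬ A d ι := by
        simpa only [not_forall, exists_prop] using hall
      obtain ⟨ι, hι, hι'⟩ := Nat.find_spec hex
      have hmin : ∀ d < Nat.find hex, ∀ f : Fin (d + 1) →o Q, Function.Injective f → A d f :=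
        fun d hd f hf => not_not.1 fun hf' => Nat.find_min hex hd ⟨f, hf, hf'⟩
      generalize Nat.find hex = d at ι hι hι' hmin
      have hb : ∀ (k : ℕ) (g : ⦋k⦌ ⟶ ⦋d⦌), ¬ Function.Surjective g.toOrderHom → A k (pre ι g) := by
        intro k g hg
        cases d with
        | zero => exact absurd (fun b => ⟨0, Subsingleton.elim (α := Fin 1) _ _⟩) hg
        | succ p =>
          obtain ⟨i, ψ, rfl⟩ := eq_comp_δ_of_not_surjective g hg
          rw [← pre_pre]
          exact hA _ _ ψ _ (hmin p (Nat.lt_succ_self p) _ (hι.comp Fin.succAbove_right_injective))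
      obtain ⟨R, hR, hR'⟩ := exists_extension_step hX hA h hh ι hι hι' hb
      let A' : ∀ l, (Fin (l + 1) →o Q) → Prop := fun l f => A l f ∨ ∃ e : ⦋l⦌ ⟶ ⦋d⦌, pre ι e = f
      have hA' : ∀ (k l : ℕ) (g : ⦋k⦌ ⟶ ⦋l⦌) (f : Fin (l + 1) →o Q), A' l f → A' k (pre f g) := by
        rintro k l g f (hf | ⟨e, rfl⟩)
        · exact Or.inl (hA k l g f hf)
        · exact Or.inr ⟨g ≫ e, rfl⟩
      have hlt : (miss A').card < N := by
        rw [← hN]
        have hd : d < Fintype.card Q := by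
          have := Fintype.card_le_of_injective _ hι
          simp only [Fintype.card_fin] at this
          omega
        refine Finset.card_lt_card (Finset.ssubset_iff_subset_ne.2 ⟨fun p hp => ?_, fun e => ?_⟩)
        · simp only [miss, Set.Finite.mem_toFinset, Set.mem_setOf_eq] at hp ⊢
          exact fun hp' => hp (Or.inl hp')
        · have : (⟨⟨d, hd⟩, ι⟩ : Σ d : Fin (Fintype.card Q), Fin (d.1 + 1) →o Q) ∈ miss A := by
            simpa [miss] using hι'
          rw [← e] at this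
          simp only [miss, Set.Finite.mem_toFinset, Set.mem_setOf_eq] at this
          exact this (Or.inr ⟨𝟙 _, pre_id ι⟩)
      choose h' hh' hext using hR'
      have step : ∀ ⦃V : D⦄ (v : V ⟶ U) (hv : R v), ∃ T ∈ J V, ∀ ⦃W : D⦄ (w : W ⟶ V), T w →
          ∃ H : ∀ (l : ℕ), (Fin (l + 1) →o Q) → sx X l W,
            (∀ (k l : ℕ) (g : ⦋k⦌ ⟶ ⦋l⦌) (f : Fin (l + 1) →o Q), sm X g (H l f) = H k (pre f g)) ∧
            ∀ (l : ℕ) (f : Fin (l + 1) →o Q) (hf : A' l f), H l f = rs w (h' v hv l f hf) :=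
        fun V v hv => ih _ hlt (U := V) (A := A') hA' (h' v hv) (hh' v hv) rfl
      choose T hT hT' using step
      refine ⟨Sieve.bind R.arrows fun _ v hv => T v hv,
        J.bind_covering hR fun V v hv => hT v hv, fun W x hx => ?_⟩
      obtain ⟨V, w, v, hv, hw, rfl⟩ := hx
      obtain ⟨H, hH, hH'⟩ := hT' v hv w hw
      exact ⟨H, hH, fun l f hf => by rw [hH' l f (Or.inl hf), hext, rs_rs]⟩

end

end Groth.Agent.H15Site.HyperBuild
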