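import Groth.Agent.H15Site.HyperBuild.Spec
import Groth.Agent.H15Site.HyperBuild.Poset
import Mathlib.AlgebraicTopology.SimplicialObject.Homotopy

/-!
# Any two morphisms of hypercoverings become homotopic after refinement
-/

set_option autoImplicit false
set_option linter.style.haveILetI false
set_option linter.unusedSectionVars false
set_option backward.isDefEq.respectTransparency false

universe u

open CategoryTheory CategoryTheory.Limits Opposite SimplexCategory
open scoped Simplicial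

namespace Groth.Agent.H15Site.HyperBuild

open HyperFill HyperSite
open scoped Classical

variable {D : Type u} [SmallCategory D] {J : GrothendieckTopology D}

lemma tyExt {A B : Type u} (f g : A ⟶ B) (h : ∀ x, f x = g x) : f = g := by
  ext x
  exact h x

section Prod

variable (P Q : SimplicialObject (Dᵒᵖ ⥤ Type u))

/-- The pointwise product of simplicial presheaves of sets. -/
def pairS : SimplicialObject (Dᵒᵖ ⥤ Type u) where
  obj Δ :=
    { obj := fun U => (P.obj Δ).obj U × (Q.obj Δ).obj U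
      map := fun v => TypeCat.ofHom fun x => ((P.obj Δ).map v x.1, (Q.obj Δ).map v x.2)
      map_id := fun U => by
        refine tyExt _ _ fun x => Prod.ext ?_ ?_ <;> simp
      map_comp := fun v w => by
        refine tyExt _ _ fun x => Prod.ext ?_ ?_ <;> simp }
  map g :=
    { app := fun U => TypeCat.ofHom fun x => ((P.map g).app U x.1, (Q.map g).app U x.2)
      naturality := fun U V v => tyExt _ _ fun x => by
        refine Prod.ext ?_ ?_
        · exact ConcreteCategory.congr_hom ((P.map g).naturality v) x.1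
        · exact ConcreteCategory.congr_hom ((Q.map g).naturality v) x.2 }
  map_id Δ := by
    refine NatTrans.ext (funext fun U => ?_)
    refine tyExt _ _ fun x => Prod.ext ?_ ?_ <;> simp
  map_comp g g' := by
    refine NatTrans.ext (funext fun U => ?_)
    refine tyExt _ _ fun x => Prod.ext ?_ ?_ <;> simp

/-- The first projection. -/
def pairFst : pairS P Q ⟶ P where
  app Δ := { app := fun U => TypeCat.ofHom Prod.fst, naturality := fun U V v => by ext x; rfl }
  naturality Δ Δ' g := by ext U x; rfl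

/-- The second projection. -/
def pairSnd : pairS P Q ⟶ Q where
  app Δ := { app := fun U => TypeCat.ofHom Prod.snd, naturality := fun U V v => by ext x; rfl }
  naturality Δ Δ' g := by ext U x; rfl

variable {P Q}

theorem fill_pairS (hP : Fill J P) (hQ : Fill J Q) : Fill J (pairS P Q) where
  nonempty U := by
    obtain ⟨R, hR, hR'⟩ := hP.nonempty U
    obtain ⟨S, hS, hS'⟩ := hQ.nonempty U
    exact ⟨R ⊓ S, J.intersection_covering hR hS, fun V v hv =>
      ⟨((hR' v hv.1).some, (hS' v hv.2).some)⟩⟩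
  fill n U x hx := by
    obtain ⟨R, hR, hR'⟩ := hP.fill n U (fun i => (x i).1)
      (fun m hm ψ ψ' i j h => congrArg Prod.fst (hx m hm ψ ψ' i j h))
    obtain ⟨S, hS, hS'⟩ := hQ.fill n U (fun i => (x i).2)
      (fun m hm ψ ψ' i j h => congrArg Prod.snd (hx m hm ψ ψ' i j h))
    refine ⟨R ⊓ S, J.intersection_covering hR hS, fun V v hv => ?_⟩
    obtain ⟨y, hy⟩ := hR' v hv.1
    obtain ⟨z, hz⟩ := hS' v hv.2
    exact ⟨(y, z), fun i => Prod.ext (hy i) (hz i)⟩

end Prod

variable {K L : SimplicialObject (FormalCoproduct.{u} D)} (ab : Fin 2 → (K ⟶ L))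

/-- A simplex of `K` with a homotopy of its two images. -/
structure HS (Δ : SimplexCategoryᵒᵖ) (U : D) : Type u where
  /-- The simplex. -/
  t : (FormalCoproduct.incl D).obj U ⟶ K.obj Δ
  /-- The homotopy. -/
  h : ∀ (l : ℕ), (⦋l⦌ ⟶ Δ.unop) → (⦋l⦌ ⟶ ⦋1⦌) → sx (XK L) l U
  nat : ∀ (k l : ℕ) (γ : ⦋k⦌ ⟶ ⦋l⦌) (g : ⦋l⦌ ⟶ Δ.unop) (τ : ⦋l⦌ ⟶ ⦋1⦌),
    h l g τ ≫ L.map γ.op = h k (γ ≫ g) (γ ≫ τ)
  ends : ∀ (l : ℕ) (g : ⦋l⦌ ⟶ Δ.unop) (c : Fin 2),
    h l g (SimplexCategory.const ⦋l⦌ ⦋1⦌ c) = (t ≫ K.map g.op) ≫ (ab c).app (op ⦋l⦌)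

variable {ab}

lemma HS.ext' {Δ : SimplexCategoryᵒᵖ} {U : D} {x y : HS ab Δ U} (ht : x.t = y.t) (hh : x.h = y.h) :
    x = y := by
  cases x; cases y; cases ht; cases hh; rfl

/-- Simplicial operators. -/
def HS.map {Δ Δ' : SimplexCategoryᵒᵖ} (g : Δ ⟶ Δ') {U : D} (x : HS ab Δ U) : HS ab Δ' U where
  t := x.t ≫ K.map g
  h l g' τ := x.h l (g' ≫ g.unop) τ
  nat k l γ g' τ := x.nat k l γ (g' ≫ g.unop) τ
  ends l g' c := by
    refine (x.ends l _ c).trans (congrArg (· ≫ _) ?_)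
    exact (congrArg (x.t ≫ ·) (K.map_comp g g'.op)).trans (Category.assoc _ _ _).symm

/-- Restriction. -/
def HS.res {Δ : SimplexCategoryᵒᵖ} {U V : D} (v : V ⟶ U) (x : HS ab Δ U) : HS ab Δ V where
  t := (FormalCoproduct.incl D).map v ≫ x.t
  h l g τ := (FormalCoproduct.incl D).map v ≫ x.h l g τ
  nat k l γ g τ := (Category.assoc _ _ _).trans (congrArg (_ ≫ ·) (x.nat k l γ g τ))
  ends l g c := by
    rw [x.ends]
    simp only [Category.assoc]

variable (ab)

/-- The simplicial presheaf of homotopy data. -/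
def homotS : SimplicialObject (Dᵒᵖ ⥤ Type u) where
  obj Δ :=
    { obj := fun U => HS ab Δ U.unop
      map := fun v => TypeCat.ofHom (HS.res v.unop)
      map_id := fun U => tyExt _ _ fun x => by
        refine HS.ext' ?_ (funext fun l => funext fun g => funext fun τ => ?_)
        · exact (congrArg (· ≫ x.t) ((FormalCoproduct.incl D).map_id U.unop)).trans (Category.id_comp _)
        · exact (congrArg (· ≫ x.h l g τ) ((FormalCoproduct.incl D).map_id U.unop)).trans
            (Category.id_comp _)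
      map_comp := fun v w => tyExt _ _ fun x => by
        refine HS.ext' ?_ (funext fun l => funext fun g => funext fun τ => ?_)
        · exact (congrArg (· ≫ x.t) ((FormalCoproduct.incl D).map_comp w.unop v.unop)).trans
            (Category.assoc _ _ _)
        · exact (congrArg (· ≫ x.h l g τ) ((FormalCoproduct.incl D).map_comp w.unop v.unop)).trans
            (Category.assoc _ _ _) }
  map g :=
    { app := fun U => TypeCat.ofHom (HS.map g)
      naturality := fun U V v => tyExt _ _ fun x =>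
        HS.ext' (Category.assoc _ _ _) rfl }
  map_id Δ := by
    refine NatTrans.ext (funext fun U => tyExt _ _ fun x => ?_)
    refine HS.ext' ((congrArg (x.t ≫ ·) (K.map_id Δ)).trans (Category.comp_id _))
      (funext fun l => funext fun g => funext fun τ => ?_)
    exact congrArg (fun g => x.h l g τ) (Category.comp_id g)
  map_comp g g' := by
    refine NatTrans.ext (funext fun U => tyExt _ _ fun x => ?_)
    exact HS.ext' ((congrArg (x.t ≫ ·) (K.map_comp g g')).trans (Category.assoc _ _ _).symm) rfl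

/-- The simplex. -/
def homotT : homotS ab ⟶ XK K where
  app Δ :=
    { app := fun U => TypeCat.ofHom fun x => x.t
      naturality := fun U V v => by ext x; rfl }
  naturality Δ Δ' g := by ext U x; rfl

section Fill

variable {k : ℕ}

/-- The first component of a chain in a product. -/
def fstHom {l : ℕ} (f : Fin (l + 1) →o Fin (k + 1) × Fin 2) : ⦋l⦌ ⟶ ⦋k⦌ :=
  SimplexCategory.Hom.mk (OrderHom.fst.comp f)

/-- The second component of a chain in a product. -/
def sndHom {l : ℕ} (f : Fin (l + 1) →o Fin (k + 1) × Fin 2) : ⦋l⦌ ⟶ ⦋1⦌ :=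
  SimplexCategory.Hom.mk (OrderHom.snd.comp f)

/-- The chain of two simplicial operators. -/
def pairHom {l : ℕ} (g : ⦋l⦌ ⟶ ⦋k⦌) (τ : ⦋l⦌ ⟶ ⦋1⦌) : Fin (l + 1) →o Fin (k + 1) × Fin 2 :=
  OrderHom.prod g.toOrderHom τ.toOrderHom

lemma fstHom_pairHom {l : ℕ} (g : ⦋l⦌ ⟶ ⦋k⦌) (τ : ⦋l⦌ ⟶ ⦋1⦌) : fstHom (pairHom g τ) = g :=
  SimplexCategory.Hom.ext _ _ (OrderHom.ext _ _ rfl)

lemma sndHom_pairHom {l : ℕ} (g : ⦋l⦌ ⟶ ⦋k⦌) (τ : ⦋l⦌ ⟶ ⦋1⦌) : sndHom (pairHom g τ) = τ :=
  SimplexCategory.Hom.ext _ _ (OrderHom.ext _ _ rfl)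

lemma not_surjective_comp_δ {l n : ℕ} (ψ : ⦋l⦌ ⟶ ⦋n⦌) (i : Fin (n + 2)) :
    ¬ Function.Surjective (ψ ≫ δ i).toOrderHom := fun hs => by
  have h1 : Function.Surjective (δ i : ⦋n⦌ ⟶ ⦋n + 1⦌).toOrderHom :=
    Function.Surjective.of_comp (g := ψ.toOrderHom) hs
  have := Fintype.card_le_of_surjective _ h1
  simp only [Fintype.card_fin, SimplexCategory.len_mk] at this
  omega

lemma const_comp' {l l' : ℕ} (γ : ⦋l'⦌ ⟶ ⦋l⦌) (c : Fin 2) :
    γ ≫ SimplexCategory.const ⦋l⦌ ⦋1⦌ c = SimplexCategory.const ⦋l'⦌ ⦋1⦌ c := rfl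

theorem fill_homotS (hK : Fill J (XK K)) (hL : Fill J (XK L)) : Fill J (homotS ab) where
  nonempty U := by
    obtain ⟨R, hR, hR'⟩ := hK.nonempty U
    have key : ∀ ⦃V : D⦄ (v : V ⟶ U), R v → ∃ T ∈ J V, ∀ ⦃W : D⦄ (w : W ⟶ V), T w →
        Nonempty (sx (homotS ab) 0 W) := by
      intro V v hv
      obtain ⟨t⟩ := hR' v hv
      let A : ∀ l, (Fin (l + 1) →o Fin 1 × Fin 2) → Prop := fun l f =>
        ∃ c, sndHom f = SimplexCategory.const ⦋l⦌ ⦋1⦌ c
      let h : ∀ (l : ℕ) (f : Fin (l + 1) →o Fin 1 × Fin 2), A l f → sx (XK L) l V := fun l f hf =>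
        sm (XK K) (fstHom f) t ≫ (ab hf.choose).app (op ⦋l⦌)
      have hval : ∀ (l : ℕ) (f : Fin (l + 1) →o Fin 1 × Fin 2) (hf : A l f) (c : Fin 2),
          sndHom f = SimplexCategory.const ⦋l⦌ ⦋1⦌ c →
            h l f hf = sm (XK K) (fstHom f) t ≫ (ab c).app (op ⦋l⦌) := by
        intro l f hf c hc
        have : hf.choose = c :=
          congrArg (fun g : ⦋l⦌ ⟶ ⦋1⦌ => g.toOrderHom 0) (hf.choose_spec.symm.trans hc)
        rw [← this]
      have hA : ∀ (k l : ℕ) (g : ⦋k⦌ ⟶ ⦋l⦌) (f : Fin (l + 1) →o Fin 1 × Fin 2), A l f → A k (pre f g) :=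
        fun k l g f ⟨c, hc⟩ => ⟨c, (congrArg (g ≫ ·) hc).trans (const_comp' g c)⟩
      have hh : IsNat (X := XK L) h := by
        intro k l g f hf hfg
        obtain ⟨c, hc⟩ := hf
        rw [hval l f ⟨c, hc⟩ c hc, hval k _ hfg c ((congrArg (g ≫ ·) hc).trans (const_comp' g c)), sm_XK,
          sm_XK, sm_XK, Category.assoc, ← (ab c).naturality g.op, ← Category.assoc, Category.assoc t,
          ← Functor.map_comp]
        rfl
      obtain ⟨T, hT, hT'⟩ := exists_extension hL hA h hh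
      refine ⟨T, hT, fun W w hw => ?_⟩
      obtain ⟨H, hH, hH'⟩ := hT' w hw
      refine ⟨⟨rs w t, fun l g τ => H l (pairHom g τ), fun k' l γ g τ => hH k' l γ (pairHom g τ),
        fun l g c => ?_⟩⟩
      refine (hH' l _ ⟨c, rfl⟩).trans ?_
      rw [hval l _ ⟨c, rfl⟩ c rfl, rs_XK, rs_XK, sm_XK, fstHom_pairHom]
      simp only [Category.assoc]
    choose T hT hT' using key
    refine ⟨Sieve.bind R.arrows fun _ v hv => T v hv, J.bind_covering hR fun V v hv => hT v hv,
      fun W x hx => ?_⟩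
    obtain ⟨V, w, v, hv, hw, rfl⟩ := hx
    exact hT' v hv w hw
  fill k U x hx := by
    obtain ⟨R, hR, hR'⟩ := hK.fill k U (fun i => (x i).t)
      (fun m hm ψ ψ' i j h => congrArg HS.t (hx m hm ψ ψ' i j h))
    have hwd : ∀ (l : ℕ) (i j : Fin (k + 2)) (ψ ψ' : ⦋l⦌ ⟶ ⦋k⦌) (τ : ⦋l⦌ ⟶ ⦋1⦌),
        ψ ≫ δ i = ψ' ≫ δ j → (x i).h l ψ τ = (x j).h l ψ' τ := fun l i j ψ ψ' τ h => by
      have := congrArg (fun z : HS ab (op ⦋l⦌) U => z.h l (𝟙 _) τ) (Compat.all hx ψ ψ' i j h)
      exact (congrArg (fun g => (x i).h l g τ) (Category.id_comp ψ).symm).trans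
        (this.trans (congrArg (fun g => (x j).h l g τ) (Category.id_comp ψ')))
    have key : ∀ ⦃V : D⦄ (v : V ⟶ U), R v → ∃ T ∈ J V, ∀ ⦃W : D⦄ (w : W ⟶ V), T w →
        ∃ y : sx (homotS ab) (k + 1) W, ∀ i, dd i y = rs (w ≫ v) (x i) := by
      intro V v hv
      obtain ⟨y, hy⟩ := hR' v hv
      let A : ∀ l, (Fin (l + 1) →o Fin (k + 1 + 1) × Fin 2) → Prop := fun l f =>
        (∃ (i : Fin (k + 2)) (ψ : ⦋l⦌ ⟶ ⦋k⦌), fstHom f = ψ ≫ δ i) ∨
          ∃ c, sndHom f = SimplexCategory.const ⦋l⦌ ⦋1⦌ c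
      let h : ∀ (l : ℕ) (f : Fin (l + 1) →o Fin (k + 1 + 1) × Fin 2), A l f → sx (XK L) l V := fun l f hf =>
        if h1 : ∃ (i : Fin (k + 2)) (ψ : ⦋l⦌ ⟶ ⦋k⦌), fstHom f = ψ ≫ δ i then
          rs v ((x h1.choose).h l h1.choose_spec.choose (sndHom f))
        else sm (XK K) (fstHom f) y ≫ (ab (hf.resolve_left h1).choose).app (op ⦋l⦌)
      have hval1 : ∀ (l : ℕ) (f : Fin (l + 1) →o Fin (k + 1 + 1) × Fin 2) (hf : A l f) (i : Fin (k + 2))
          (ψ : ⦋l⦌ ⟶ ⦋k⦌), fstHom f = ψ ≫ δ i → h l f hf = rs v ((x i).h l ψ (sndHom f)) := by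
        intro l f hf i ψ he
        have h1 : ∃ (i : Fin (k + 2)) (ψ : ⦋l⦌ ⟶ ⦋k⦌), fstHom f = ψ ≫ δ i := ⟨i, ψ, he⟩
        refine (dif_pos h1).trans (congrArg (rs v) (hwd l _ i _ ψ _ ?_))
        exact h1.choose_spec.choose_spec.symm.trans he
      have hval2 : ∀ (l : ℕ) (f : Fin (l + 1) →o Fin (k + 1 + 1) × Fin 2) (hf : A l f) (c : Fin 2),
          sndHom f = SimplexCategory.const ⦋l⦌ ⦋1⦌ c →
            h l f hf = sm (XK K) (fstHom f) y ≫ (ab c).app (op ⦋l⦌) := by
        intro l f hf c hc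
        by_cases h1 : ∃ (i : Fin (k + 2)) (ψ : ⦋l⦌ ⟶ ⦋k⦌), fstHom f = ψ ≫ δ i
        · obtain ⟨i, ψ, he⟩ := h1
          rw [hval1 l f hf i ψ he, hc, (x i).ends, he, ← sm_sm,
            show sm (XK K) (δ i) y = rs v ((x i).t) from hy i, rs_XK, rs_XK, sm_XK]
          simp only [Category.assoc]
        · refine (dif_neg h1).trans ?_
          have : (hf.resolve_left h1).choose = c :=
            congrArg (fun g : ⦋l⦌ ⟶ ⦋1⦌ => g.toOrderHom 0) ((hf.resolve_left h1).choose_spec.symm.trans hc)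
          rw [← this]
      have hA : ∀ (k' l : ℕ) (g : ⦋k'⦌ ⟶ ⦋l⦌) (f : Fin (l + 1) →o Fin (k + 1 + 1) × Fin 2),
          A l f → A k' (pre f g) := by
        rintro k' l g f (⟨i, ψ, he⟩ | ⟨c, hc⟩)
        · exact Or.inl ⟨i, g ≫ ψ, (congrArg (g ≫ ·) he).trans (Category.assoc _ _ _).symm⟩
        · exact Or.inr ⟨c, (congrArg (g ≫ ·) hc).trans (const_comp' g c)⟩
      have hh : IsNat (X := XK L) h := by
        intro k' l g f hf hfg
        rcases hf with ⟨i, ψ, he⟩ | ⟨c, hc⟩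
        · rw [hval1 l f (Or.inl ⟨i, ψ, he⟩) i ψ he, hval1 k' _ hfg i (g ≫ ψ)
            ((congrArg (g ≫ ·) he).trans (Category.assoc _ _ _).symm), sm_rs]
          exact congrArg (rs v) ((x i).nat k' l g ψ (sndHom f))
        · rw [hval2 l f (Or.inr ⟨c, hc⟩) c hc, hval2 k' _ hfg c ((congrArg (g ≫ ·) hc).trans (const_comp' g c)),
            sm_XK, sm_XK, sm_XK, Category.assoc, ← (ab c).naturality g.op, ← Category.assoc, Category.assoc y,
            ← Functor.map_comp]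
          rfl
      obtain ⟨T, hT, hT'⟩ := exists_extension hL hA h hh
      refine ⟨T, hT, fun W w hw => ?_⟩
      obtain ⟨H, hH, hH'⟩ := hT' w hw
      refine ⟨⟨rs w y, fun l g τ => H l (pairHom g τ), fun k' l γ g τ => hH k' l γ (pairHom g τ),
        fun l g c => ?_⟩, fun i => HS.ext' ?_ (funext fun l => funext fun g => funext fun τ => ?_)⟩
      · refine (hH' l _ (Or.inr ⟨c, rfl⟩)).trans ?_
        rw [hval2 l _ (Or.inr ⟨c, rfl⟩) c rfl, rs_XK, rs_XK, sm_XK, fstHom_pairHom]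
        simp only [Category.assoc]
      · change sm (XK K) (δ i) (rs w y) = _
        rw [sm_rs, show sm (XK K) (δ i) y = rs v ((x i).t) from hy i, rs_rs]
        rfl
      · refine (hH' l _ (Or.inl ⟨i, g, rfl⟩)).trans ?_
        rw [hval1 l _ (Or.inl ⟨i, g, rfl⟩) i g rfl, rs_rs, sndHom_pairHom]
        rfl
    choose T hT hT' using key
    refine ⟨Sieve.bind R.arrows fun _ v hv => T v hv, J.bind_covering hR fun V v hv => hT v hv,
      fun W y hy => ?_⟩
    obtain ⟨V, w, v, hv, hw, rfl⟩ := hy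
    exact hT' v hv w hw

end Fill

section Homotopy

variable {M : SimplicialObject (FormalCoproduct.{u} D)} (π : XK M ⟶ homotS ab)

/-- The threshold simplices of the interval. -/
def thr {m : ℕ} (i : Fin (m + 1)) : ⦋m + 1⦌ ⟶ ⦋1⦌ :=
  SimplexCategory.Hom.mk ⟨fun x => if x.val ≤ i.val then 0 else 1, fun x y h => by
    have h' : x.val ≤ y.val := h
    dsimp only
    split_ifs <;> first | exact le_rfl | exact Fin.zero_le _ | omega⟩

lemma thr_ext {m : ℕ} {f g : ⦋m⦌ ⟶ ⦋1⦌}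
    (h : ∀ x : Fin (m + 1), f.toOrderHom x = g.toOrderHom x) : f = g :=
  SimplexCategory.Hom.ext _ _ (OrderHom.ext _ _ (funext h))

lemma succAbove_val {m : ℕ} (p : Fin (m + 1)) (x : Fin m) :
    (p.succAbove x).val = if x.val < p.val then x.val else x.val + 1 := by
  unfold Fin.succAbove
  split_ifs <;> simp_all [Fin.lt_def]

lemma predAbove_val {m : ℕ} (p : Fin m) (x : Fin (m + 1)) :
    (p.predAbove x).val = if p.val < x.val then x.val - 1 else x.val := by
  rcases lt_or_ge p.val x.val with h | h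
  · rw [if_pos h, Fin.predAbove_of_castSucc_lt _ _ h, Fin.val_pred]
  · rw [if_neg (not_lt.2 h), Fin.predAbove_of_le_castSucc _ _ h]
    rfl

/-- The components of the homotopy. -/
def hc {m : ℕ} (i : Fin (m + 1)) : M.obj (op ⦋m⦌) ⟶ L.obj (op ⦋m + 1⦌) :=
  homDesc
    { app := fun U => TypeCat.ofHom fun e => ((π.app (op ⦋m⦌)).app U e).h (m + 1) (σ i) (thr i)
      naturality := fun U V v => tyExt _ _ fun e => by
        have e1 := ConcreteCategory.congr_hom ((π.app (op ⦋m⦌)).naturality v)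
          (e : sx (XK M) m U.unop)
        exact congrArg (fun z : HS ab (op ⦋m⦌) V.unop => z.h (m + 1) (σ i) (thr i)) e1 }

lemma comp_hc {m : ℕ} (i : Fin (m + 1)) {U : D} (e : sx (XK M) m U) :
    e ≫ hc ab π i = ((π.app (op ⦋m⦌)).app (op U) e).h (m + 1) (σ i) (thr i) :=
  comp_homDesc _ e

lemma hc_map {m l : ℕ} (i : Fin (m + 1)) (γ : ⦋l⦌ ⟶ ⦋m + 1⦌) {U : D} (e : sx (XK M) m U) :
    e ≫ hc ab π i ≫ L.map γ.op = ((π.app (op ⦋m⦌)).app (op U) e).h l (γ ≫ σ i) (γ ≫ thr i) :=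
  (Category.assoc _ _ _).symm.trans ((congrArg (· ≫ L.map γ.op) (comp_hc ab π i e)).trans
    (((π.app (op ⦋m⦌)).app (op U) e).nat _ _ γ _ _))

lemma map_hc {m' m : ℕ} (i : Fin (m + 1)) (g : ⦋m⦌ ⟶ ⦋m'⦌) {U : D} (e : sx (XK M) m' U) :
    e ≫ M.map g.op ≫ hc ab π i = ((π.app (op ⦋m'⦌)).app (op U) e).h (m + 1) (σ i ≫ g) (thr i) :=
  (Category.assoc _ _ _).symm.trans ((comp_hc ab π i (e ≫ M.map g.op)).trans
    (congrArg (fun z : HS ab (op ⦋m⦌) U => z.h (m + 1) (σ i) (thr i))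
      (ConcreteCategory.congr_hom (congr_app (π.naturality g.op) (op U)) e)))

lemma hc_end {m : ℕ} (i : Fin (m + 1)) (γ : ⦋m⦌ ⟶ ⦋m + 1⦌) (c : Fin 2) (h1 : γ ≫ σ i = 𝟙 _)
    (h2 : γ ≫ thr i = SimplexCategory.const ⦋m⦌ ⦋1⦌ c) :
    hc ab π i ≫ L.map γ.op = (sDesc (π ≫ homotT ab) ≫ ab c).app (op ⦋m⦌) := by
  refine hom_ext_pts _ _ fun e => ?_
  rw [hc_map, h1, h2, HS.ends]
  refine Eq.trans ?_ (Category.assoc _ _ _)
  refine congrArg (· ≫ (ab c).app (op ⦋m⦌)) ?_
  rw [op_id, CategoryTheory.Functor.map_id, Category.comp_id]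
  exact (comp_sDesc (π ≫ homotT ab) _).symm

lemma hc_map_map {m m' : ℕ} (i : Fin (m + 1)) (γ : ⦋m' + 1⦌ ⟶ ⦋m + 1⦌) (j : Fin (m' + 1)) (g : ⦋m'⦌ ⟶ ⦋m⦌)
    (h1 : γ ≫ σ i = σ j ≫ g) (h2 : γ ≫ thr i = thr j) :
    hc ab π i ≫ L.map γ.op = M.map g.op ≫ hc ab π j := by
  refine hom_ext_pts _ _ fun e => ?_
  rw [hc_map, map_hc, h1, h2]

/-- The homotopy. -/
noncomputable def homotopy :
    SimplicialObject.Homotopy (sDesc (π ≫ homotT ab) ≫ ab 0) (sDesc (π ≫ homotT ab) ≫ ab 1) where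
  h i := hc ab π i
  h_zero_comp_δ_zero n := hc_end ab π 0 (δ 0) 1 δ_comp_σ_self (thr_ext fun x => by
    show (if ((0 : Fin (n + 2)).succAbove x).val ≤ 0 then (0 : Fin 2) else 1) = 1
    rw [if_neg]
    simp)
  h_last_comp_δ_last n := hc_end ab π (Fin.last n) (δ (Fin.last (n + 1))) 0
    (δ_comp_σ_succ' (Fin.succ_last n).symm) (thr_ext fun x => by
    show (if ((Fin.last (n + 1)).succAbove x).val ≤ (Fin.last n).val then (0 : Fin 2) else 1) = 0
    rw [if_pos]
    rw [succAbove_val]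
    have := x.isLt
    simp only [Fin.val_last]
    split_ifs <;> omega)
  h_succ_comp_δ_castSucc_of_lt {n} i j hij :=
    hc_map_map ab π j.succ (δ i.castSucc) j (δ i) (δ_comp_σ_of_le hij) (thr_ext fun x => by
      show (if (i.castSucc.succAbove x).val ≤ j.succ.val then (0 : Fin 2) else 1) = if x.val ≤ j.val then 0 else 1
      have : i.val ≤ j.val := hij
      rw [succAbove_val]
      simp only [Fin.val_castSucc, Fin.val_succ]
      split_ifs <;> first | rfl | omega)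
  h_succ_comp_δ_castSucc_succ {n} j := by
    refine hom_ext_pts _ _ fun e => ?_
    refine (hc_map ab π j.succ (δ j.castSucc.succ) _).trans
      (Eq.trans ?_ (hc_map ab π j.castSucc (δ j.castSucc.succ) _).symm)
    congr 1
    · rw [δ_comp_σ_succ]
      exact δ_comp_σ_self' (Fin.castSucc_succ j).symm
    · refine thr_ext fun x => ?_
      show (if (j.castSucc.succ.succAbove x).val ≤ j.succ.val then (0 : Fin 2) else 1) =
        if (j.castSucc.succ.succAbove x).val ≤ j.castSucc.val then 0 else 1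
      rw [succAbove_val]
      simp only [Fin.val_castSucc, Fin.val_succ]
      split_ifs <;> first | rfl | omega
  h_castSucc_comp_δ_succ_of_lt {n} i j hji :=
    hc_map_map ab π j.castSucc (δ i.succ) j (δ i) (δ_comp_σ_of_gt hji) (thr_ext fun x => by
      show (if (i.succ.succAbove x).val ≤ j.castSucc.val then (0 : Fin 2) else 1) = if x.val ≤ j.val then 0 else 1
      have : j.val < i.val := hji
      rw [succAbove_val]
      simp only [Fin.val_castSucc, Fin.val_succ]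
      split_ifs <;> first | rfl | omega)
  h_comp_σ_castSucc_of_le {n} i j hij :=
    hc_map_map ab π j (σ i.castSucc) j.succ (σ i) (σ_comp_σ hij).symm.symm (thr_ext fun x => by
      show (if (i.castSucc.predAbove x).val ≤ j.val then (0 : Fin 2) else 1) = if x.val ≤ j.succ.val then 0 else 1
      have : i.val ≤ j.val := hij
      rw [predAbove_val]
      simp only [Fin.val_castSucc, Fin.val_succ]
      split_ifs <;> first | rfl | omega)
  h_comp_σ_succ_of_lt {n} i j hji :=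
    hc_map_map ab π j (σ i.succ) j.castSucc (σ i) (σ_comp_σ hji).symm (thr_ext fun x => by
      show (if (i.succ.predAbove x).val ≤ j.val then (0 : Fin 2) else 1) = if x.val ≤ j.castSucc.val then 0 else 1
      have : j.val ≤ i.val := hji
      rw [predAbove_val]
      simp only [Fin.val_castSucc, Fin.val_succ]
      split_ifs <;> first | rfl | omega)

end Homotopy

end Groth.Agent.H15Site.HyperBuild
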