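import Groth.Agent.H15Site.HyperBuild.Spec
import Groth.Agent.H15Site.SRCover

/-!
# Pullbacks of hypercoverings along fibrations
-/

set_option autoImplicit false
set_option linter.style.haveILetI false
set_option linter.unusedSectionVars false
set_option backward.isDefEq.respectTransparency false

universe u

open CategoryTheory CategoryTheory.Limits Opposite SimplexCategory
open scoped Simplicial

namespace Groth.Agent.H15Site.HyperBuild

open HyperFill HyperSite

variable {D : Type u} [SmallCategory D] {J : GrothendieckTopology D}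

variable [∀ (n : ℕ) (F : (SimplexCategory.Truncated n)ᵒᵖ ⥤ FormalCoproduct.{u} D),
    (SimplexCategory.Truncated.inclusion n).op.HasRightKanExtension F]

lemma classify_comp {K L : SimplicialObject (FormalCoproduct.{u} D)} (a : K ⟶ L) {n : ℕ} {U : D}
    (t : (FormalCoproduct.incl D).obj U ⟶ K.obj (op ⦋n⦌)) :
    classify t ≫ a = classify (t ≫ a.app (op ⦋n⦌)) := by
  refine NatTrans.ext (funext fun Δ => simplex_hom_ext _ _ fun f => ?_)
  refine (Category.assoc _ _ _).symm.trans ((congrArg (· ≫ a.app Δ) (classify_pt K t Δ f)).trans ?_)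
  refine Eq.trans ?_ (classify_pt L (t ≫ a.app (op ⦋n⦌)) Δ f).symm
  refine (Category.assoc _ _ _).trans (Eq.trans ?_ (Category.assoc _ _ _).symm)
  exact congrArg (t ≫ ·) (a.naturality f.op)

lemma simplexPt_classify {K : SimplicialObject (FormalCoproduct.{u} D)} {n : ℕ} {U : D}
    (t : (FormalCoproduct.incl D).obj U ⟶ K.obj (op ⦋n⦌)) :
    simplexPt (Δ := op ⦋n⦌) (𝟙 _) ≫ (classify t).app (op ⦋n⦌) = t := by
  refine (classify_pt K t (op ⦋n⦌) (𝟙 _)).trans ?_
  rw [op_id, CategoryTheory.Functor.map_id, Category.comp_id]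

section Pullback

variable {K L M P : SimplicialObject (FormalCoproduct.{u} D)} {a : K ⟶ L} {b : M ⟶ L} {p1 : P ⟶ K}
  {p2 : P ⟶ M} (hP : IsPullback p1 p2 a b)
include hP

lemma exists_pullback_pt {n : ℕ} {U : D} (t : sx (XK K) n U) (m : sx (XK M) n U)
    (h : t ≫ a.app (op ⦋n⦌) = m ≫ b.app (op ⦋n⦌)) :
    ∃ y : sx (XK P) n U, y ≫ p1.app (op ⦋n⦌) = t ∧ y ≫ p2.app (op ⦋n⦌) = m := by
  have w : classify t ≫ a = classify m ≫ b :=
    (classify_comp a t).trans ((congrArg (fun z => classify (K := L) z) h).trans (classify_comp b m).symm)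
  refine ⟨simplexPt (Δ := op ⦋n⦌) (𝟙 _) ≫ (hP.lift _ _ w).app (op ⦋n⦌), ?_, ?_⟩
  · refine (Category.assoc _ _ _).trans ((congrArg (_ ≫ ·) ?_).trans (simplexPt_classify t))
    exact congr_app (hP.lift_fst _ _ w) (op ⦋n⦌)
  · refine (Category.assoc _ _ _).trans ((congrArg (_ ≫ ·) ?_).trans (simplexPt_classify m))
    exact congr_app (hP.lift_snd _ _ w) (op ⦋n⦌)

lemma pullback_pt_ext {n : ℕ} {U : D} {y y' : sx (XK P) n U}
    (h1 : y ≫ p1.app (op ⦋n⦌) = y' ≫ p1.app (op ⦋n⦌)) (h2 : y ≫ p2.app (op ⦋n⦌) = y' ≫ p2.app (op ⦋n⦌)) :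
    y = y' := by
  have e : classify (K := P) y = classify (K := P) y' := hP.hom_ext
    ((classify_comp p1 y).trans ((congrArg (fun z => classify (K := K) z) h1).trans (classify_comp p1 y').symm))
    ((classify_comp p2 y).trans ((congrArg (fun z => classify (K := M) z) h2).trans (classify_comp p2 y').symm))
  rw [← simplexPt_classify y, ← simplexPt_classify y', e]

end Pullback

/-- A compatible sphere is a simplex of the coskeleton. -/
theorem exists_cosk {K : SimplicialObject (FormalCoproduct.{u} D)} {n : ℕ} {U : D}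
    (x : Fin (n + 2) → sx (XK K) n U) (hx : Compat (XK K) x) :
    ∃ c : (FormalCoproduct.incl D).obj U ⟶ (Ck K n).obj (op ⦋n + 1⦌),
      ∀ (k : ℕ) (hk : k ≤ n) (i : Fin (n + 2)) (ψ : ⦋k⦌ ⟶ ⦋n⦌),
        face K n c hk (ψ ≫ δ i) = x i ≫ K.map ψ.op := by
  classical
  let z : ∀ (k : ℕ), k ≤ n → (⦋k⦌ ⟶ ⦋n + 1⦌) → ((FormalCoproduct.incl D).obj U ⟶ K.obj (op ⦋k⦌)) :=
    fun k hk f => x (exists_eq_comp_δ hk f).choose ≫ K.map (exists_eq_comp_δ hk f).choose_spec.choose.op
  have hz : ∀ (k : ℕ) (hk : k ≤ n) (i : Fin (n + 2)) (ψ : ⦋k⦌ ⟶ ⦋n⦌) (f : ⦋k⦌ ⟶ ⦋n + 1⦌), f = ψ ≫ δ i →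
      z k hk f = x i ≫ K.map ψ.op := fun k hk i ψ f he =>
    hx k hk _ ψ _ i ((exists_eq_comp_δ hk f).choose_spec.choose_spec.symm.trans he)
  let τapp : ∀ (k : ℕ) (hk : k ≤ n), (simplex (n + 1) U).obj (op ⦋k⦌) ⟶ K.obj (op ⦋k⦌) := fun k hk =>
    ⟨fun f => (z k hk f.down).f PUnit.unit, fun f => (z k hk f.down).φ PUnit.unit⟩
  have hτ : ∀ (k : ℕ) (hk : k ≤ n) (f : ⦋k⦌ ⟶ ⦋n + 1⦌),
      simplexPt (Δ := op ⦋k⦌) f ≫ τapp k hk = z k hk f := fun k hk f =>
    homP_hom_ext _ _ (Sigma.ext rfl (heq_of_eq (Category.id_comp _)))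
  let τ : (SimplicialObject.truncation n).obj (simplex (n + 1) U) ⟶ (SimplicialObject.truncation n).obj K :=
    { app := fun Δ => τapp Δ.unop.obj.len Δ.unop.property
      naturality := fun Δ Δ' g => by
        obtain ⟨⟨Δ, hΔ⟩⟩ := Δ
        obtain ⟨⟨Δ', hΔ'⟩⟩ := Δ'
        induction Δ using SimplexCategory.rec with | _ k
        induction Δ' using SimplexCategory.rec with | _ k'
        refine simplex_hom_ext (Δ := op ⦋k⦌) _ _ fun f => ?_
        obtain ⟨i, ψ, rfl⟩ := exists_eq_comp_δ hΔ f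
        refine (Category.assoc _ _ _).symm.trans ?_
        refine (congrArg (· ≫ _) (simplexPt_map (U := U) g.unop.hom.op (ψ ≫ δ i))).trans ?_
        refine (hτ k' hΔ' (g.unop.hom ≫ ψ ≫ δ i)).trans ?_
        rw [hz k' hΔ' i (g.unop.hom ≫ ψ) _ (Category.assoc _ _ _).symm, op_comp, Functor.map_comp]
        refine Eq.trans ?_ (Category.assoc _ _ _)
        refine (Category.assoc _ _ _).symm.trans (congrArg (· ≫ K.map g.unop.hom.op) ?_)
        refine Eq.trans (hz k hΔ i ψ _ rfl).symm ?_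
        exact (hτ k hΔ (ψ ≫ δ i)).symm }
  let σ : simplex (n + 1) U ⟶ Ck K n := ((SimplicialObject.coskAdj n).homEquiv _ _) τ
  refine ⟨simplexPt (Δ := op ⦋n + 1⦌) (𝟙 _) ≫ σ.app (op ⦋n + 1⦌), fun k hk i ψ => ?_⟩
  have hσ : σ.app (op ⦋k⦌) ≫ ((SimplicialObject.coskAdj n).counit.app
      ((SimplicialObject.truncation n).obj K)).app (op ⟨⦋k⦌, hk⟩) = τ.app (op ⟨⦋k⦌, hk⟩) :=
    congr_app (((SimplicialObject.coskAdj n).homEquiv_counit _ _ σ).symm.trans
      (Equiv.symm_apply_apply _ τ)) (op ⟨⦋k⦌, hk⟩)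
  have h1 : simplexPt (U := U) (Δ := op ⦋n + 1⦌) (𝟙 _) ≫ (simplex (n + 1) U).map (ψ ≫ δ i).op =
      simplexPt (Δ := op ⦋k⦌) (ψ ≫ δ i) := (simplexPt_map _ _).trans (congrArg _ (Category.comp_id _))
  unfold face
  rw [Category.assoc]
  refine (congrArg (simplexPt (Δ := op ⦋n + 1⦌) (𝟙 _) ≫ ·) ((Category.assoc _ _ _).symm.trans
    (congrArg (fun t => t ≫ _) (σ.naturality (ψ ≫ δ i).op).symm))).trans ?_
  refine (congrArg (simplexPt (Δ := op ⦋n + 1⦌) (𝟙 _) ≫ ·) ((Category.assoc _ _ _).trans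
    (congrArg (_ ≫ ·) hσ))).trans ?_
  refine (Category.assoc _ _ _).symm.trans ((congrArg (fun t => t ≫ _) h1).trans ?_)
  refine (hτ k hk (ψ ≫ δ i)).trans ?_
  exact hz k hk i ψ _ rfl

lemma face_cosk_map {K L : SimplicialObject (FormalCoproduct.{u} D)} (b : K ⟶ L) (n : ℕ) {U : D} {m : ℕ}
    (c : (FormalCoproduct.incl D).obj U ⟶ (Ck K n).obj (op ⦋m⦌)) {k : ℕ} (hk : k ≤ n) (f : ⦋k⦌ ⟶ ⦋m⦌) :
    face L n (c ≫ ((SimplicialObject.truncation n ⋙ SimplicialObject.Truncated.cosk n).map b).app (op ⦋m⦌)) hk f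
      = face K n c hk f ≫ b.app (op ⦋k⦌) := by
  have h1 := ((SimplicialObject.truncation n ⋙ SimplicialObject.Truncated.cosk n).map b).naturality f.op
  have h2 := congr_app ((SimplicialObject.coskAdj n).counit.naturality ((SimplicialObject.truncation n).map b))
    (op ⟨⦋k⦌, hk⟩)
  unfold face
  simp only [Category.assoc]
  refine congrArg (c ≫ ·) ?_
  refine (Category.assoc _ _ _).symm.trans ((congrArg (fun t => t ≫ _) h1.symm).trans ?_)
  exact (Category.assoc _ _ _).trans (congrArg (_ ≫ ·) h2)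

theorem fill_pullback [HasPullbacks D] {K L M P : SimplicialObject (FormalCoproduct.{u} D)} (a : K ⟶ L)
    (b : M ⟶ L) (p1 : P ⟶ K) (p2 : P ⟶ M) (hP : IsPullback p1 p2 a b) (hK : Fill J (XK K))
    (h0 : Hyper.IsSRCovering J (b.app (op ⦋0⦌)))
    (hγ : ∀ (n : ℕ) (Q : FormalCoproduct.{u} D)
      (q1 : Q ⟶ L.obj (op ⦋n + 1⦌))
      (q2 : Q ⟶ ((SimplicialObject.truncation n ⋙ SimplicialObject.Truncated.cosk n).obj M).obj (op ⦋n + 1⦌))
      (γ : M.obj (op ⦋n + 1⦌) ⟶ Q),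
      IsPullback q1 q2 (((SimplicialObject.coskAdj n).unit.app L).app (op ⦋n + 1⦌))
        (((SimplicialObject.truncation n ⋙ SimplicialObject.Truncated.cosk n).map b).app (op ⦋n + 1⦌)) →
      γ ≫ q1 = b.app (op ⦋n + 1⦌) →
      γ ≫ q2 = ((SimplicialObject.coskAdj n).unit.app M).app (op ⦋n + 1⦌) →
      Hyper.IsSRCovering J γ) :
    Fill J (XK P) where
  nonempty U := by
    haveI := HyperOver.isLocallySurjective_homP_of_isSRCovering _ h0
    obtain ⟨R, hR, hR'⟩ := hK.nonempty U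
    have key : ∀ ⦃V : D⦄ (v : V ⟶ U), R v → ∃ T ∈ J V, ∀ ⦃W : D⦄ (w : W ⟶ V), T w →
        Nonempty (sx (XK P) 0 W) := by
      intro V v hv
      obtain ⟨t⟩ := hR' v hv
      refine ⟨_, Presheaf.imageSieve_mem J ((homP D).map (b.app (op ⦋0⦌))) (U := op V)
        ((t ≫ a.app (op ⦋0⦌) : sx (XK L) 0 V)), fun W w hw => ?_⟩
      obtain ⟨m, hm⟩ := hw
      obtain ⟨y, -, -⟩ := exists_pullback_pt hP (rs w t) m ((Category.assoc _ _ _).trans hm.symm)
      exact ⟨y⟩
    choose T hT hT' using key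
    refine ⟨Sieve.bind R.arrows fun _ v hv => T v hv, J.bind_covering hR fun V v hv => hT v hv,
      fun W x hx => ?_⟩
    obtain ⟨V, w, v, hv, hw, rfl⟩ := hx
    exact hT' v hv w hw
  fill n U x hx := by
    have sm_app : ∀ (K' : SimplicialObject (FormalCoproduct.{u} D)) (p : P ⟶ K') {k l : ℕ}
        (ψ : ⦋k⦌ ⟶ ⦋l⦌) {V : D} (z : sx (XK P) l V),
        sm (XK K') ψ (z ≫ p.app (op ⦋l⦌)) = sm (XK P) ψ z ≫ p.app (op ⦋k⦌) := fun K' p k l ψ V z =>
      (Category.assoc _ _ _).trans ((congrArg (z ≫ ·) (p.naturality ψ.op).symm).trans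
        (Category.assoc _ _ _).symm)
    have hx1 : Compat (XK K) (fun i => x i ≫ p1.app (op ⦋n⦌)) := fun m hm ψ ψ' i j h =>
      (sm_app K p1 ψ (x i)).trans ((congrArg (· ≫ p1.app (op ⦋m⦌)) (hx m hm ψ ψ' i j h)).trans
        (sm_app K p1 ψ' (x j)).symm)
    have hx2 : Compat (XK M) (fun i => x i ≫ p2.app (op ⦋n⦌)) := fun m hm ψ ψ' i j h =>
      (sm_app M p2 ψ (x i)).trans ((congrArg (· ≫ p2.app (op ⦋m⦌)) (hx m hm ψ ψ' i j h)).trans
        (sm_app M p2 ψ' (x j)).symm)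
    obtain ⟨c, hc⟩ := exists_cosk _ hx2
    let uL := ((SimplicialObject.coskAdj n).unit.app L).app (op ⦋n + 1⦌)
    let uM := ((SimplicialObject.coskAdj n).unit.app M).app (op ⦋n + 1⦌)
    let cb := ((SimplicialObject.truncation n ⋙ SimplicialObject.Truncated.cosk n).map b).app (op ⦋n + 1⦌)
    haveI : HasPullback uL cb := SRCover.hasPullback cb uL
    have hb : b.app (op ⦋n + 1⦌) ≫ uL = uM ≫ cb :=
      congr_app ((SimplicialObject.coskAdj n).unit.naturality b) (op ⦋n + 1⦌)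
    let γ : M.obj (op ⦋n + 1⦌) ⟶ pullback uL cb := pullback.lift _ _ hb
    haveI := HyperOver.isLocallySurjective_homP_of_isSRCovering γ
      (hγ n _ _ _ γ (IsPullback.of_hasPullback uL cb) (pullback.lift_fst _ _ _) (pullback.lift_snd _ _ _))
    obtain ⟨R, hR, hR'⟩ := hK.fill n U _ hx1
    have key : ∀ ⦃V : D⦄ (v : V ⟶ U), R v → ∃ T ∈ J V, ∀ ⦃W : D⦄ (w : W ⟶ V), T w →
        ∃ y : sx (XK P) (n + 1) W, ∀ i, dd i y = rs (w ≫ v) (x i) := by
      intro V v hv
      obtain ⟨y, hy⟩ := hR' v hv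
      have hq : (y ≫ a.app (op ⦋n + 1⦌)) ≫ uL = ((FormalCoproduct.incl D).map v ≫ c) ≫ cb := by
        refine cosk_ext L n _ _ fun k hk f => ?_
        obtain ⟨i, ψ, rfl⟩ := exists_eq_comp_δ hk f
        refine (unit_face L n (y ≫ a.app (op ⦋n + 1⦌)) hk _).trans ?_
        rw [Category.assoc]
        refine Eq.trans ?_ (face_cosk_map b n ((FormalCoproduct.incl D).map v ≫ c) hk (ψ ≫ δ i)).symm
        have h1 : face M n ((FormalCoproduct.incl D).map v ≫ c) hk (ψ ≫ δ i) =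
            (FormalCoproduct.incl D).map v ≫ (x i ≫ p2.app (op ⦋n⦌)) ≫ M.map ψ.op := by
          rw [← hc k hk i ψ]
          exact Category.assoc _ _ _
        rw [h1, ← a.naturality (ψ ≫ δ i).op, op_comp, K.map_comp]
        have h2 : y ≫ K.map (δ i).op = (FormalCoproduct.incl D).map v ≫ x i ≫ p1.app (op ⦋n⦌) := hy i
        simp only [Category.assoc]
        rw [reassoc_of% h2, a.naturality ψ.op, b.naturality ψ.op, ← Category.assoc (p1.app _),
          ← Category.assoc (p2.app _), ← NatTrans.comp_app p1 a, ← NatTrans.comp_app p2 b, hP.w]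
      let q : (FormalCoproduct.incl D).obj V ⟶ pullback uL cb := pullback.lift _ _ hq
      refine ⟨_, Presheaf.imageSieve_mem J ((homP D).map γ) (U := op V) q, fun W w hw => ?_⟩
      obtain ⟨m, hm⟩ := hw
      change m ≫ γ = (FormalCoproduct.incl D).map w ≫ q at hm
      have hm1 : m ≫ b.app (op ⦋n + 1⦌) = (FormalCoproduct.incl D).map w ≫ y ≫ a.app (op ⦋n + 1⦌) := by
        have := congrArg (· ≫ pullback.fst uL cb) hm
        simpa [γ, q, Category.assoc] using this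
      have hm2 : m ≫ uM = (FormalCoproduct.incl D).map w ≫ (FormalCoproduct.incl D).map v ≫ c := by
        have := congrArg (· ≫ pullback.snd uL cb) hm
        simpa [γ, q, Category.assoc] using this
      obtain ⟨z, hz1, hz2⟩ := exists_pullback_pt hP (rs w y) m ((Category.assoc _ _ _).trans hm1.symm)
      refine ⟨z, fun i => pullback_pt_ext hP ?_ ?_⟩
      · refine (sm_app K p1 (δ i) z).symm.trans ?_
        rw [hz1, sm_rs, show sm (XK K) (δ i) y = rs v (x i ≫ p1.app (op ⦋n⦌)) from hy i, rs_rs, rs_XK, rs_XK, Category.assoc]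
      · refine (sm_app M p2 (δ i) z).symm.trans ?_
        rw [hz2, sm_XK]
        refine (unit_face M n m (le_refl n) (δ i)).symm.trans ?_
        rw [hm2, ← Category.assoc ((FormalCoproduct.incl D).map w), ← Functor.map_comp]
        refine Eq.trans (Category.assoc _ _ _) ?_
        have h3 := hc n le_rfl i (𝟙 _)
        rw [Category.id_comp, op_id, CategoryTheory.Functor.map_id, Category.comp_id] at h3
        exact (congrArg ((FormalCoproduct.incl D).map (w ≫ v) ≫ ·) h3).trans (Category.assoc _ _ _).symm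
    choose T hT hT' using key
    refine ⟨Sieve.bind R.arrows fun _ v hv => T v hv, J.bind_covering hR fun V v hv => hT v hv,
      fun W y hy => ?_⟩
    obtain ⟨V, w, v, hv, hw, rfl⟩ := hy
    exact hT' v hv w hw

end Groth.Agent.H15Site.HyperBuild
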