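import Groth.Agent.H15Site.HyperBuild.Spec

/-!
# Refining a hypercovering in a given degree
-/

set_option autoImplicit false
set_option linter.style.haveILetI false
set_option linter.unusedSectionVars false
set_option backward.isDefEq.respectTransparency false

universe u

open CategoryTheory CategoryTheory.Limits Opposite SimplexCategory
open scoped Simplicial

namespace Groth.Agent.H15Site.HyperBuild

open HyperFill HyperSite
open scoped Classical

variable {D : Type u} [SmallCategory D] {J : GrothendieckTopology D}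
  (K : SimplicialObject (FormalCoproduct.{u} D)) {n : ℕ} {P0 : Dᵒᵖ ⥤ Type u}
  (q : P0 ⟶ (homP D).obj (K.obj (op ⦋n⦌)))

/-- A simplex of `K` together with lifts of its `n`-dimensional faces. -/
structure RS (Δ : SimplexCategoryᵒᵖ) (U : D) : Type u where
  /-- The simplex. -/
  t : (FormalCoproduct.incl D).obj U ⟶ K.obj Δ
  /-- The lifts. -/
  s : (⦋n⦌ ⟶ Δ.unop) → P0.obj (op U)
  eq : ∀ θ, q.app (op U) (s θ) = t ≫ K.map θ.op

variable {K q}

lemma RS.ext {Δ : SimplexCategoryᵒᵖ} {U : D} {x y : RS K q Δ U} (ht : x.t = y.t) (hs : x.s = y.s) :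
    x = y := by
  cases x; cases y; cases ht; cases hs; rfl

/-- Simplicial operators. -/
def RS.map {Δ Δ' : SimplexCategoryᵒᵖ} (g : Δ ⟶ Δ') {U : D} (x : RS K q Δ U) : RS K q Δ' U where
  t := x.t ≫ K.map g
  s θ := x.s (θ ≫ g.unop)
  eq θ := by
    rw [x.eq, Category.assoc, ← Functor.map_comp]
    rfl

/-- Restriction. -/
def RS.res {Δ : SimplexCategoryᵒᵖ} {U V : D} (v : V ⟶ U) (x : RS K q Δ U) : RS K q Δ V where
  t := (FormalCoproduct.incl D).map v ≫ x.t
  s θ := P0.map v.op (x.s θ)
  eq θ := by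
    refine (ConcreteCategory.congr_hom (q.naturality v.op) (x.s θ)).trans ?_
    refine (congrArg (fun z => (FormalCoproduct.incl D).map v ≫ z) (x.eq θ)).trans ?_
    exact (Category.assoc _ _ _).symm

variable (K q)

/-- The simplicial presheaf of simplices with lifts. -/
def refineS : SimplicialObject (Dᵒᵖ ⥤ Type u) where
  obj Δ :=
    { obj := fun U => RS K q Δ U.unop
      map := fun v => TypeCat.ofHom (RS.res v.unop)
      map_id := fun U => by
        ext x
        refine RS.ext ?_ (funext fun θ => ?_)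
        · exact (congrArg (· ≫ x.t) ((FormalCoproduct.incl D).map_id U.unop)).trans (Category.id_comp _)
        · exact ConcreteCategory.congr_hom (P0.map_id U) (x.s θ)
      map_comp := fun v w => by
        ext x
        refine RS.ext ?_ (funext fun θ => ?_)
        · exact (congrArg (· ≫ x.t) ((FormalCoproduct.incl D).map_comp w.unop v.unop)).trans (Category.assoc _ _ _)
        · exact ConcreteCategory.congr_hom (P0.map_comp v w) (x.s θ) }
  map g :=
    { app := fun U => TypeCat.ofHom (RS.map g)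
      naturality := fun U V v => by
        ext x
        exact RS.ext (Category.assoc _ _ _) rfl }
  map_id Δ := by
    ext U x
    refine RS.ext ((congrArg (x.t ≫ ·) (K.map_id Δ)).trans (Category.comp_id _)) (funext fun θ => ?_)
    exact congrArg x.s (Category.comp_id θ)
  map_comp g g' := by
    ext U x
    exact RS.ext ((congrArg (x.t ≫ ·) (K.map_comp g g')).trans (Category.assoc _ _ _).symm) rfl

/-- The simplex. -/
def refineT : refineS K q ⟶ XK K where
  app Δ :=
    { app := fun U => TypeCat.ofHom fun x => x.t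
      naturality := fun U V v => by ext x; rfl }
  naturality Δ Δ' g := by ext U x; rfl

/-- The lift of the identical face. -/
def refineZ : (refineS K q).obj (op ⦋n⦌) ⟶ P0 where
  app U := TypeCat.ofHom fun x => x.s (𝟙 _)
  naturality U V v := by ext x; rfl

lemma refineZ_comp : refineZ K q ≫ q = (refineT K q).app (op ⦋n⦌) := by
  ext U x
  refine (x.eq (𝟙 _)).trans ?_
  rw [op_id, CategoryTheory.Functor.map_id, Category.comp_id]
  rfl

variable [Presheaf.IsLocallySurjective J q]

/-- Finitely many sections lift locally. -/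
theorem exists_lifts {α : Type*} [Finite α] {V : D} (a : α → sx (XK K) n V) :
    ∃ T ∈ J V, ∀ ⦃W : D⦄ (w : W ⟶ V), T w →
      ∃ s : α → P0.obj (op W), ∀ i, q.app (op W) (s i) = rs w (a i) := by
  letI := Fintype.ofFinite α
  obtain ⟨T, hT, hT'⟩ := exists_cover_finset (J := J) (Finset.univ : Finset α)
    (fun i => Presheaf.imageSieve q (a i)) (fun i _ => Presheaf.imageSieve_mem J q (a i))
  refine ⟨T, hT, fun W w hw => ?_⟩
  choose s hs using fun i => hT' w hw i (Finset.mem_univ i)
  exact ⟨s, hs⟩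

theorem fill_refineS (hK : Fill J (XK K)) : Fill J (refineS K q) where
  nonempty U := by
    obtain ⟨R, hR, hR'⟩ := hK.nonempty U
    have key : ∀ ⦃V : D⦄ (v : V ⟶ U), R v → ∃ T ∈ J V, ∀ ⦃W : D⦄ (w : W ⟶ V), T w →
        Nonempty (sx (refineS K q) 0 W) := by
      intro V v hv
      obtain ⟨t⟩ := hR' v hv
      obtain ⟨T, hT, hT'⟩ := exists_lifts (J := J) K q fun θ : ⦋n⦌ ⟶ ⦋0⦌ => sm (XK K) θ t
      refine ⟨T, hT, fun W w hw => ?_⟩
      obtain ⟨s, hs⟩ := hT' w hw
      exact ⟨⟨rs w t, s, fun θ => (hs θ).trans (sm_rs (X := XK K) θ w t).symm⟩⟩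
    choose T hT hT' using key
    refine ⟨Sieve.bind R.arrows fun _ v hv => T v hv, J.bind_covering hR fun V v hv => hT v hv,
      fun W x hx => ?_⟩
    obtain ⟨V, w, v, hv, hw, rfl⟩ := hx
    exact hT' v hv w hw
  fill k U x hx := by
    have ht : Compat (XK K) (fun i => (x i).t) := fun m hm ψ ψ' i j h =>
      congrArg RS.t (hx m hm ψ ψ' i j h)
    obtain ⟨R, hR, hR'⟩ := hK.fill k U _ ht
    have key : ∀ ⦃V : D⦄ (v : V ⟶ U), R v → ∃ T ∈ J V, ∀ ⦃W : D⦄ (w : W ⟶ V), T w →
        ∃ y : sx (refineS K q) (k + 1) W, ∀ i, dd i y = rs (w ≫ v) (x i) := by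
      intro V v hv
      obtain ⟨y, hy⟩ := hR' v hv
      obtain ⟨T, hT, hT'⟩ := exists_lifts (J := J) K q fun θ : ⦋n⦌ ⟶ ⦋k + 1⦌ => sm (XK K) θ y
      refine ⟨T, hT, fun W w hw => ?_⟩
      obtain ⟨s, hs⟩ := hT' w hw
      let s' : (⦋n⦌ ⟶ ⦋k + 1⦌) → P0.obj (op W) := fun θ =>
        if h : ¬ Function.Surjective θ.toOrderHom then
          P0.map (w ≫ v).op ((x (eq_comp_δ_of_not_surjective θ h).choose).s
            (eq_comp_δ_of_not_surjective θ h).choose_spec.choose)
        else s θ
      have hwd : ∀ (i j : Fin (k + 2)) (ψ ψ' : ⦋n⦌ ⟶ ⦋k⦌), ψ ≫ δ i = ψ' ≫ δ j →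
          (x i).s ψ = (x j).s ψ' := fun i j ψ ψ' h => by
        have := congrArg (fun z : RS K q (op ⦋n⦌) U => z.s (𝟙 _)) (Compat.all hx ψ ψ' i j h)
        exact (congrArg (x i).s (Category.id_comp ψ).symm).trans
          (this.trans (congrArg (x j).s (Category.id_comp ψ')))
      have hδ : ∀ (i : Fin (k + 2)) (ψ : ⦋n⦌ ⟶ ⦋k⦌), s' (ψ ≫ δ i) = P0.map (w ≫ v).op ((x i).s ψ) := by
        intro i ψ
        have h : ¬ Function.Surjective (ψ ≫ δ i).toOrderHom := fun hs => by
          have h1 : Function.Surjective (δ i : ⦋k⦌ ⟶ ⦋k + 1⦌).toOrderHom :=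
            Function.Surjective.of_comp (g := ψ.toOrderHom) hs
          have := Fintype.card_le_of_surjective _ h1
          simp only [Fintype.card_fin, SimplexCategory.len_mk] at this
          omega
        refine (dif_pos h).trans (congrArg _ (hwd _ i _ ψ ?_))
        exact (eq_comp_δ_of_not_surjective (ψ ≫ δ i) h).choose_spec.choose_spec.symm
      have hface : ∀ i, sm (XK K) (δ i) (rs w y) = rs (w ≫ v) ((x i).t) := fun i => by
        rw [sm_rs, show sm (XK K) (δ i) y = rs v ((x i).t) from hy i, rs_rs]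
      refine ⟨⟨rs w y, s', fun θ => ?_⟩, fun i => ?_⟩
      · by_cases h : ¬ Function.Surjective θ.toOrderHom
        · obtain ⟨i, ψ, rfl⟩ := eq_comp_δ_of_not_surjective θ h
          rw [hδ i ψ]
          refine (RS.eq (RS.res (w ≫ v) (x i)) ψ).trans ?_
          refine (congrArg (fun z => z ≫ K.map ψ.op) (hface i).symm).trans ?_
          exact (sm_sm (X := XK K) ψ (δ i) (rs w y))
        · exact (congrArg (q.app (op W)) (dif_neg h)).trans ((hs θ).trans (sm_rs (X := XK K) θ w y).symm)
      · exact RS.ext (hface i) (funext fun ψ => hδ i ψ)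
    choose T hT hT' using key
    refine ⟨Sieve.bind R.arrows fun _ v hv => T v hv, J.bind_covering hR fun V v hv => hT v hv,
      fun W y hy => ?_⟩
    obtain ⟨V, w, v, hv, hw, rfl⟩ := hy
    exact hT' v hv w hw

/-- Refinement. -/
theorem exists_refinement (hK : Fill J (XK K)) :
    ∃ (L : SimplicialObject (FormalCoproduct.{u} D)) (f : L ⟶ K)
      (g : (homP D).obj (L.obj (op ⦋n⦌)) ⟶ P0),
      Fill J (XK L) ∧ g ≫ q = (homP D).map (f.app (op ⦋n⦌)) := by
  refine ⟨L (Sub.full (refineS K q) Set.univ), sDesc (proj _ ≫ refineT K q),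
    (proj _).app (op ⦋n⦌) ≫ refineZ K q, fill_full _ _ _ (fill_refineS K q hK) covers_univ, ?_⟩
  rw [Category.assoc, refineZ_comp]
  ext U x
  exact (comp_sDesc (proj _ ≫ refineT K q) x).symm

end Groth.Agent.H15Site.HyperBuild
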