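import Groth.Agent.H15Site.HyperBuild.Build

/-!
# Hypercoverings by objects of a given set
-/

set_option autoImplicit false
set_option linter.style.haveILetI false
set_option linter.unusedSectionVars false
set_option backward.isDefEq.respectTransparency false

universe u

open CategoryTheory CategoryTheory.Limits Opposite SimplexCategory
open scoped Simplicial

namespace Groth.Agent.H15Site.HyperBuild

open HyperFill HyperSite

variable {D : Type u} [SmallCategory D] {J : GrothendieckTopology D}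

/-- Every object is covered by objects of `B`. -/
def Covers (J : GrothendieckTopology D) (B : Set D) : Prop :=
  ∀ U : D, ∃ R ∈ J U, ∀ ⦃V : D⦄ (v : V ⟶ U), R v → ∃ (W : D) (_ : W ∈ B) (a : V ⟶ W) (b : W ⟶ U), a ≫ b = v

theorem covers_of_family {B : Set D}
    (h : ∀ U : D, ∃ (ι : Type u) (Y : ι → D) (f : ∀ i, Y i ⟶ U), Sieve.ofArrows Y f ∈ J U ∧ ∀ i, Y i ∈ B) :
    Covers J B := fun U => by
  obtain ⟨ι, Y, f, hc, hY⟩ := h U
  refine ⟨_, hc, fun V v hv => ?_⟩
  obtain ⟨W, a, b, hb, hfac⟩ := hv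
  obtain ⟨i⟩ := hb
  exact ⟨_, hY i, a, f i, hfac⟩

theorem covers_univ : Covers J Set.univ := fun U =>
  ⟨⊤, J.top_mem U, fun _ v _ => ⟨U, trivial, v, 𝟙 U, Category.comp_id v⟩⟩

/-- The terminal simplicial presheaf. -/
abbrev ptS (D : Type u) [SmallCategory D] : SimplicialObject (Dᵒᵖ ⥤ Type u) :=
  (Functor.const SimplexCategoryᵒᵖ).obj ((Functor.const Dᵒᵖ).obj PUnit.{u + 1})

theorem fill_ptS : Fill J (ptS D) where
  nonempty U := ⟨⊤, J.top_mem U, fun _ _ _ => ⟨PUnit.unit⟩⟩
  fill _ U _ _ := ⟨⊤, J.top_mem U, fun _ _ _ => ⟨PUnit.unit, fun _ => rfl⟩⟩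

section Over

variable {C : Type u} [SmallCategory C] {J : GrothendieckTopology C} {X : C}

theorem covers_over {B : Set C} (h : Covers J B) :
    Covers (J.over X) {Y : Over X | Y.left ∈ B} := fun U => by
  obtain ⟨R, hR, hR'⟩ := h U.left
  refine ⟨_, J.overEquiv_symm_mem_over U R hR, fun V v hv => ?_⟩
  rw [Sieve.overEquiv_symm_iff] at hv
  obtain ⟨W, hW, a, b, hab⟩ := hR' v.left hv
  exact ⟨Over.mk (b ≫ U.hom), hW,
    Over.homMk a (((Category.assoc _ _ _).symm.trans (congrArg (· ≫ U.hom) hab)).trans (Over.w v)),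
    Over.homMk b rfl, Over.OverMorphism.ext hab⟩

variable [∀ (n : ℕ) (F : (SimplexCategory.Truncated n)ᵒᵖ ⥤ FormalCoproduct.{u} (Over X)),
    (SimplexCategory.Truncated.inclusion n).op.HasRightKanExtension F]

theorem isHypercovering_full (P : SimplicialObject ((Over X)ᵒᵖ ⥤ Type u)) (hP : Fill (J.over X) P)
    {B : Set C} (hB : Covers J B) :
    Hyper.IsHypercovering J X (L (Sub.full P {Y : Over X | Y.left ∈ B})) :=
  isHypercovering_of_fill (fill_full _ _ _ hP (covers_over hB))

theorem exists_hypercovering_in {B : Set C} (hB : Covers J B) :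
    ∃ K : SimplicialObject (FormalCoproduct.{u} (Over X)), Hyper.IsHypercovering J X K ∧
      ∀ (n : ℕ) (i : (K.obj (op ⦋n⦌)).I), ((K.obj (op ⦋n⦌)).obj i).left ∈ B :=
  ⟨_, isHypercovering_full _ fill_ptS hB, fun n i => L_obj_mem _ (op ⦋n⦌) i⟩

end Over

section Site

variable (K : SimplicialObject (FormalCoproduct.{u} D))
  [∀ (n : ℕ) (F : (SimplexCategory.Truncated n)ᵒᵖ ⥤ FormalCoproduct.{u} D),
    (SimplexCategory.Truncated.inclusion n).op.HasRightKanExtension F]

theorem isHypercoveringSite_of_fill (hF : Fill J (XK K)) : Hyper.IsHypercoveringSite J K := by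
  refine ⟨⟨fun {U} s => ?_⟩, ⟨fun {U} s => ?_⟩, fun n _ =>
    HyperOver.isLocallySurjective_yoneda_of_isSRCovering _ (isSRCovering_unit K n hF)⟩
  · obtain ⟨R, hR, hR'⟩ := hF.nonempty U
    refine J.superset_covering (fun V v hv => ?_) hR
    obtain ⟨b⟩ := hR' v hv
    exact ⟨(yonedaIso.inv.app _).app (op V) b, by
      haveI : Subsingleton ((⊤_ Dᵒᵖ ⥤ Type u).obj (op V)) :=
        ⟨fun a b => yonedaEquiv.symm.injective (terminal.hom_ext _ _)⟩
      exact Subsingleton.elim _ _⟩
  · let Y := (FormalCoproduct.yoneda (C := D)).obj (K.obj (op ⦋0⦌))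
    let x : Fin 2 → sx (XK K) 0 U := ![(yonedaIso.hom.app _).app (op U) (prod.snd (X := Y).app (op U) s),
      (yonedaIso.hom.app _).app (op U) (prod.fst (Y := Y).app (op U) s)]
    have hx : Compat (XK K) x := fun m hm ψ ψ' i j h => by
      obtain rfl : m = 0 := Nat.le_zero.1 hm
      have h1 : ∀ φ : ⦋0⦌ ⟶ ⦋0⦌, φ = 𝟙 _ := fun φ => SimplexCategory.Hom.ext _ _
        (OrderHom.ext _ _ (funext fun _ => Subsingleton.elim (α := Fin 1) _ _))
      obtain rfl : i = j := by
        rw [h1 ψ, h1 ψ', Category.id_comp, Category.id_comp] at h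
        have h2 : i.succAbove 0 = j.succAbove 0 :=
          congrArg (fun f : ⦋0⦌ ⟶ ⦋1⦌ => f.toOrderHom 0) h
        revert h2; revert i j; decide
      rw [h1 ψ, h1 ψ']
    obtain ⟨R, hR, hR'⟩ := hF.fill 0 U x hx
    refine J.superset_covering (fun V v hv => ?_) hR
    obtain ⟨y, hy⟩ := hR' v hv
    refine ⟨(yonedaIso.inv.app _).app (op V) y, ?_⟩
    have key : ∀ (π : Y ⨯ Y ⟶ Y) (i : Fin 2),
        prod.lift ((FormalCoproduct.yoneda (C := D)).map (K.δ (1 : Fin 2)))
          ((FormalCoproduct.yoneda (C := D)).map (K.δ (0 : Fin 2))) ≫ π =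
            (FormalCoproduct.yoneda (C := D)).map (K.δ i) →
        dd i y = rs v ((yonedaIso.hom.app _).app (op U) (π.app (op U) s)) →
        π.app (op V) ((prod.lift ((FormalCoproduct.yoneda (C := D)).map (K.δ (1 : Fin 2)))
          ((FormalCoproduct.yoneda (C := D)).map (K.δ (0 : Fin 2)))).app (op V)
            ((yonedaIso.inv.app _).app (op V) y)) = π.app (op V) ((Y ⨯ Y).map v.op s) := by
      intro π i hi hy
      refine (ConcreteCategory.congr_hom (congr_app hi (op V)) _).trans ?_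
      refine Eq.trans ?_ (ConcreteCategory.congr_hom (π.naturality v.op) s).symm
      have hb : Function.Injective ((yonedaIso.hom.app (K.obj (op ⦋0⦌))).app (op V)) :=
        ((isIso_iff_bijective _).1 inferInstance).1
      apply hb
      refine (ConcreteCategory.congr_hom (congr_app (yonedaIso.hom.naturality (K.δ i)) (op V)) _).trans ?_
      refine Eq.trans ?_ (ConcreteCategory.congr_hom
        ((yonedaIso.hom.app (K.obj (op ⦋0⦌))).naturality v.op) (π.app (op U) s)).symm
      refine Eq.trans ?_ hy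
      exact congrArg (fun z : sx (XK K) 1 V => dd i z) (show
        (yonedaIso.hom.app (K.obj (op ⦋1⦌))).app (op V)
          ((yonedaIso.inv.app (K.obj (op ⦋1⦌))).app (op V) y) = y from
        ConcreteCategory.congr_hom (congr_app (yonedaIso.inv_hom_id_app (K.obj (op ⦋1⦌))) (op V)) y)
    apply yonedaEquiv.symm.injective
    refine prod.hom_ext ?_ ?_
    · apply yonedaEquiv.injective
      rw [yonedaEquiv_comp, yonedaEquiv_comp, Equiv.apply_symm_apply, Equiv.apply_symm_apply]
      exact key prod.fst 1 (prod.lift_fst _ _) (hy 1)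
    · apply yonedaEquiv.injective
      rw [yonedaEquiv_comp, yonedaEquiv_comp, Equiv.apply_symm_apply, Equiv.apply_symm_apply]
      exact key prod.snd 0 (prod.lift_snd _ _) (hy 0)

theorem exists_hypercoveringSite_in {B : Set D} (hB : Covers J B) :
    ∃ K : SimplicialObject (FormalCoproduct.{u} D), Hyper.IsHypercoveringSite J K ∧
      ∀ (n : ℕ) (i : (K.obj (op ⦋n⦌)).I), (K.obj (op ⦋n⦌)).obj i ∈ B :=
  ⟨_, isHypercoveringSite_of_fill _ (fill_full _ _ _ fill_ptS hB), fun n i => L_obj_mem _ (op ⦋n⦌) i⟩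

end Site

end Groth.Agent.H15Site.HyperBuild
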