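import Groth.Agent.H15Site.HyperBuild.Homot

/-!
# Simplicial sets: maps that are bijective below `n` and surjective in degree `n`, coskeletal
-/

set_option autoImplicit false
set_option linter.style.haveILetI false
set_option linter.unusedSectionVars false
set_option backward.isDefEq.respectTransparency false

universe u

open CategoryTheory CategoryTheory.Limits Opposite SimplexCategory
open scoped Simplicial

namespace Groth.Agent.H15Site.HyperBuild

open scoped Classical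

/-- The simplices are determined, uniquely, by their faces of dimension at most `n`. -/
def CoskEl (n : ℕ) (S : SimplicialObject (Type u)) : Prop :=
  ∀ (m : ℕ) (t : ∀ k, k ≤ n → (⦋k⦌ ⟶ ⦋m⦌) → S.obj (op ⦋k⦌)),
    (∀ (k l : ℕ) (hk : k ≤ n) (hl : l ≤ n) (g : ⦋k⦌ ⟶ ⦋l⦌) (f : ⦋l⦌ ⟶ ⦋m⦌),
      S.map g.op (t l hl f) = t k hk (g ≫ f)) →
    ∃! x : S.obj (op ⦋m⦌), ∀ k (hk : k ≤ n) (f : ⦋k⦌ ⟶ ⦋m⦌), S.map f.op x = t k hk f

variable {S : SimplicialObject (Type u)}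

/-- Simplicial operators on elements. -/
abbrev ac (S : SimplicialObject (Type u)) {k l : ℕ} (g : ⦋k⦌ ⟶ ⦋l⦌) (x : S.obj (op ⦋l⦌)) :
    S.obj (op ⦋k⦌) := S.map g.op x

lemma ac_ac {j k l : ℕ} (g : ⦋k⦌ ⟶ ⦋l⦌) (h : ⦋j⦌ ⟶ ⦋k⦌) (x : S.obj (op ⦋l⦌)) :
    ac S h (ac S g x) = ac S (h ≫ g) x := by
  simp [ac]

lemma ac_id {k : ℕ} (x : S.obj (op ⦋k⦌)) : ac S (𝟙 ⦋k⦌) x = x := by
  simp [ac]

lemma CoskEl.ext {n : ℕ} (hS : CoskEl n S) {m : ℕ} {x y : S.obj (op ⦋m⦌)}
    (h : ∀ k, k ≤ n → ∀ f : ⦋k⦌ ⟶ ⦋m⦌, ac S f x = ac S f y) : x = y :=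
  (hS m (fun k _ f => ac S f x) (fun _ _ _ _ g f => ac_ac f g x)).unique
    (fun _ _ _ => rfl) (fun k hk f => (h k hk f).symm)

/-- A simplex in the image of a lower degree one. -/
def Deg {n : ℕ} (a : S.obj (op ⦋n⦌)) : Prop :=
  ∃ (p : ℕ) (_ : p < n) (e : ⦋n⦌ ⟶ ⦋p⦌) (u : S.obj (op ⦋p⦌)), ac S e u = a

/-- A degenerate simplex is determined by its faces. -/
theorem Deg.eq_of_faces {n : ℕ} {a b : S.obj (op ⦋n + 1⦌)} (ha : Deg a) (hb : Deg b)
    (h : ∀ i : Fin (n + 2), ac S (δ i) a = ac S (δ i) b) : a = b := by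
  have key : ∀ a : S.obj (op ⦋n + 1⦌), Deg a → ∃ (i : Fin (n + 1)) (u : S.obj (op ⦋n⦌)), ac S (σ i) u = a := by
    rintro a ⟨p, hp, e, u, rfl⟩
    obtain ⟨i, θ, rfl⟩ := eq_σ_comp_of_not_injective e fun he => by
      have := Fintype.card_le_of_injective _ he
      simp only [Fintype.card_fin, SimplexCategory.len_mk] at this
      omega
    exact ⟨i, ac S θ u, ac_ac θ (σ i) u⟩
  obtain ⟨i, x, rfl⟩ := key a ha
  obtain ⟨j, y, rfl⟩ := key b hb
  have hx : ∀ (i : Fin (n + 1)) (x : S.obj (op ⦋n⦌)), ac S (δ i.castSucc) (ac S (σ i) x) = x := fun i x => by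
    rw [ac_ac, δ_comp_σ_self, ac_id]
  -- it is enough to treat `i ≤ j`
  suffices main : ∀ (i j : Fin (n + 1)) (x y : S.obj (op ⦋n⦌)), i ≤ j →
      (∀ k : Fin (n + 2), ac S (δ k) (ac S (σ i) x) = ac S (δ k) (ac S (σ j) y)) →
        ac S (σ i) x = ac S (σ j) y by
    rcases le_total i j with hij | hij
    · exact main i j x y hij h
    · exact (main j i y x hij fun k => (h k).symm).symm
  intro i j x y hij h
  rcases eq_or_lt_of_le hij with rfl | hlt
  · rw [← hx i x, h, hx]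
  · cases n with
    | zero => exact absurd hlt (by omega)
    | succ n =>
      obtain ⟨j', rfl⟩ : ∃ j' : Fin (n + 1), j = j'.succ :=
        ⟨j.pred (fun e => by subst e; simp at hlt), (Fin.succ_pred _ _).symm⟩
      have hij' : i.val ≤ j'.val := by
        have : i.val < j'.val + 1 := hlt
        omega
      obtain ⟨i', rfl⟩ : ∃ i' : Fin (n + 1), i = i'.castSucc := ⟨⟨i.val, by omega⟩, Fin.ext rfl⟩
      simp only [Fin.val_castSucc] at hij'
      let w := ac S (δ i'.castSucc) y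
      have hle : i' ≤ j' := hij'
      have hx' : x = ac S (σ j') w := by
        rw [← hx i'.castSucc x, h, ac_ac, ac_ac]
        refine congrArg (fun g => ac S g y) ?_
        exact δ_comp_σ_of_le (show i'.castSucc ≤ j'.castSucc from hle)
      have hy : y = ac S (σ i') w := by
        rw [← hx j'.succ y, ← h, hx', ac_ac, ac_ac]
        refine congrArg (fun g => ac S g w) ?_
        rw [Category.assoc, σ_comp_σ hle, ← Category.assoc, δ_comp_σ_self, Category.id_comp]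
      exact (congrArg (ac S (σ i'.castSucc)) hx').trans ((ac_ac _ _ w).trans
        ((congrArg (fun g => ac S g w) (σ_comp_σ hle)).trans
          ((ac_ac _ _ w).symm.trans (congrArg (ac S (σ j'.succ)) hy).symm)))

variable {A B : SimplicialObject (Type u)} (v : A ⟶ B) {n : ℕ}

/-- Applying the map to elements. -/
abbrev vv {k : ℕ} (x : A.obj (op ⦋k⦌)) : B.obj (op ⦋k⦌) := v.app (op ⦋k⦌) x

lemma vv_ac {k l : ℕ} (g : ⦋k⦌ ⟶ ⦋l⦌) (x : A.obj (op ⦋l⦌)) : vv v (ac A g x) = ac B g (vv v x) :=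
  ConcreteCategory.congr_hom (v.naturality g.op) x

variable (n) in
/-- The hypotheses. -/
structure Special : Prop where
  lo : ∀ k < n, Function.Bijective (v.app (op ⦋k⦌))
  cA : CoskEl n A
  cB : CoskEl n B

variable {v} (hv : Special v n)
include hv

/-- Degenerate lifts are unique. -/
theorem Special.deg_unique {a b : A.obj (op ⦋n⦌)} (ha : Deg a) (hb : Deg b) (h : vv v a = vv v b) : a = b := by
  cases n with
  | zero => obtain ⟨p, hp, _⟩ := ha; exact absurd hp (Nat.not_lt_zero p)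
  | succ p =>
    refine ha.eq_of_faces hb fun i => (hv.lo p (Nat.lt_succ_self p)).1 ?_
    exact (vv_ac v _ _).trans ((congrArg (ac B (δ i)) h).trans (vv_ac v _ _).symm)

omit hv in
variable (v n) in
/-- Every face of dimension `n` lifts. -/
def Good {m : ℕ} (y : B.obj (op ⦋m⦌)) : Prop :=
  ∀ f : ⦋n⦌ ⟶ ⦋m⦌, ∃ x, vv v x = ac B f y

/-- The chosen lift in degree `n`. -/
noncomputable def Special.sN (_h : Special v n) (z : B.obj (op ⦋n⦌)) (hz : ∃ x, vv v x = z) : A.obj (op ⦋n⦌) :=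
  if h : ∃ a, Deg a ∧ vv v a = z then h.choose else hz.choose

lemma Special.vv_sN (z : B.obj (op ⦋n⦌)) (hz : ∃ x, vv v x = z) : vv v (hv.sN z hz) = z := by
  unfold Special.sN
  split_ifs with h
  · exact h.choose_spec.2
  · exact hz.choose_spec

lemma Special.sN_eq {z : B.obj (op ⦋n⦌)} (hz : ∃ x, vv v x = z) {a : A.obj (op ⦋n⦌)} (ha : Deg a)
    (h : vv v a = z) : hv.sN z hz = a := by
  have h' : ∃ a, Deg a ∧ vv v a = z := ⟨a, ha, h⟩
  unfold Special.sN
  rw [dif_pos h']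
  exact hv.deg_unique h'.choose_spec.1 ha (h'.choose_spec.2.trans h.symm)

omit hv in
lemma Good.ac {m l : ℕ} {y : B.obj (op ⦋m⦌)} (hy : Good v n y) (g : ⦋l⦌ ⟶ ⦋m⦌) : Good v n (ac B g y) := fun f => by
  obtain ⟨x, hx⟩ := hy (f ≫ g)
  exact ⟨x, hx.trans (ac_ac g f y).symm⟩

/-- The lifts of the faces. -/
noncomputable def Special.t {m : ℕ} (y : B.obj (op ⦋m⦌)) (hy : Good v n y) (k : ℕ) (hk : k ≤ n)
    (f : ⦋k⦌ ⟶ ⦋m⦌) : A.obj (op ⦋k⦌) :=
  if h : k < n then ((hv.lo k h).2 (ac B f y)).choose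
  else
    have e : k = n := le_antisymm hk (not_lt.1 h)
    e ▸ hv.sN (ac B (eqToHom (by rw [e]) ≫ f) y) (hy _)

lemma Special.vv_t {m : ℕ} (y : B.obj (op ⦋m⦌)) (hy : Good v n y) (k : ℕ) (hk : k ≤ n) (f : ⦋k⦌ ⟶ ⦋m⦌) :
    vv v (hv.t y hy k hk f) = ac B f y := by
  unfold Special.t
  split_ifs with h
  · exact ((hv.lo k h).2 (ac B f y)).choose_spec
  · obtain rfl : k = n := le_antisymm hk (not_lt.1 h)
    simp only [eqToHom_refl, Category.id_comp]
    exact hv.vv_sN _ _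

lemma Special.t_top {m : ℕ} (y : B.obj (op ⦋m⦌)) (hy : Good v n y) (f : ⦋n⦌ ⟶ ⦋m⦌) :
    hv.t y hy n le_rfl f = hv.sN (ac B f y) (hy f) := by
  unfold Special.t
  rw [dif_neg (lt_irrefl n)]
  simp only [eqToHom_refl, Category.id_comp]

lemma Special.t_nat {m : ℕ} (y : B.obj (op ⦋m⦌)) (hy : Good v n y) (k l : ℕ) (hk : k ≤ n) (hl : l ≤ n)
    (g : ⦋k⦌ ⟶ ⦋l⦌) (f : ⦋l⦌ ⟶ ⦋m⦌) : ac A g (hv.t y hy l hl f) = hv.t y hy k hk (g ≫ f) := by
  have himg : vv v (ac A g (hv.t y hy l hl f)) = ac B (g ≫ f) y := by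
    rw [vv_ac, hv.vv_t, ac_ac]
  rcases eq_or_lt_of_le hk with rfl | hk'
  · rw [hv.t_top]
    rcases eq_or_lt_of_le hl with rfl | hl'
    · by_cases hg : Function.Injective g.toOrderHom
      · haveI : Mono g := SimplexCategory.mono_iff_injective.2 hg
        rw [SimplexCategory.eq_id_of_mono g, ac_id, hv.t_top]
        simp only [Category.id_comp]
      · refine (hv.sN_eq _ ?_ himg).symm
        cases l with
        | zero => exact absurd (fun a b _ => Subsingleton.elim (α := Fin 1) a b) hg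
        | succ p =>
          obtain ⟨i, θ, rfl⟩ := eq_σ_comp_of_not_injective g hg
          exact ⟨p, Nat.lt_succ_self p, σ i, _, ac_ac θ (σ i) _⟩
    · exact (hv.sN_eq _ ⟨l, hl', g, _, rfl⟩ himg).symm
  · exact (hv.lo k hk').1 (himg.trans (hv.vv_t y hy k hk (g ≫ f)).symm)

/-- The chosen lift. -/
noncomputable def Special.s {m : ℕ} (y : B.obj (op ⦋m⦌)) (hy : Good v n y) : A.obj (op ⦋m⦌) :=
  (hv.cA m (hv.t y hy) (fun k l hk hl g f => hv.t_nat y hy k l hk hl g f)).exists.choose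

lemma Special.ac_s {m : ℕ} (y : B.obj (op ⦋m⦌)) (hy : Good v n y) (k : ℕ) (hk : k ≤ n) (f : ⦋k⦌ ⟶ ⦋m⦌) :
    ac A f (hv.s y hy) = hv.t y hy k hk f :=
  (hv.cA m (hv.t y hy) (fun k l hk hl g f => hv.t_nat y hy k l hk hl g f)).exists.choose_spec k hk f

theorem Special.vv_s {m : ℕ} (y : B.obj (op ⦋m⦌)) (hy : Good v n y) : vv v (hv.s y hy) = y :=
  hv.cB.ext fun k hk f => by rw [← vv_ac, hv.ac_s y hy k hk f, hv.vv_t]

theorem Special.s_ac {m l : ℕ} (y : B.obj (op ⦋m⦌)) (hy : Good v n y) (g : ⦋l⦌ ⟶ ⦋m⦌) :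
    ac A g (hv.s y hy) = hv.s (ac B g y) (hy.ac g) := by
  refine hv.cA.ext fun k hk f => ?_
  rw [ac_ac, hv.ac_s y hy k hk, hv.ac_s _ _ k hk]
  rcases eq_or_lt_of_le hk with rfl | hk'
  · rw [hv.t_top, hv.t_top]
    congr 1
    exact (ac_ac g f y).symm
  · refine (hv.lo k hk').1 ?_
    exact (hv.vv_t _ _ _ hk _).trans ((ac_ac g f y).symm.trans (hv.vv_t _ _ _ hk _).symm)

omit hv in
lemma good_of_mem_range {m : ℕ} {y : B.obj (op ⦋m⦌)} (h : ∃ x, vv v x = y) : Good v n y := fun f => by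
  obtain ⟨x, rfl⟩ := h
  exact ⟨ac A f x, vv_ac v f x⟩

/-- The map `s ∘ v`. -/
noncomputable def Special.sv {m : ℕ} (x : A.obj (op ⦋m⦌)) : A.obj (op ⦋m⦌) :=
  hv.s (vv v x) (good_of_mem_range ⟨x, rfl⟩)

lemma Special.sv_lo {k : ℕ} (hk : k < n) (x : A.obj (op ⦋k⦌)) : hv.sv x = x :=
  (hv.lo k hk).1 (hv.vv_s _ _)

lemma Special.ac_sv {m l : ℕ} (g : ⦋l⦌ ⟶ ⦋m⦌) (x : A.obj (op ⦋m⦌)) : ac A g (hv.sv x) = hv.sv (ac A g x) := by
  unfold Special.sv
  rw [hv.s_ac]
  congr 1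
  exact (vv_ac v g x).symm

/-- The cylinder values. -/
noncomputable def Special.cyl {m : ℕ} (x : A.obj (op ⦋m⦌)) {k : ℕ} (g : ⦋k⦌ ⟶ ⦋m⦌) (τ : ⦋k⦌ ⟶ ⦋1⦌) :
    A.obj (op ⦋k⦌) :=
  if τ = SimplexCategory.const ⦋k⦌ ⦋1⦌ 0 then ac A g x else hv.sv (ac A g x)

lemma Special.cyl_nat {m : ℕ} (x : A.obj (op ⦋m⦌)) {k l : ℕ} (hk : k ≤ n) (hl : l ≤ n) (γ : ⦋k⦌ ⟶ ⦋l⦌)
    (g : ⦋l⦌ ⟶ ⦋m⦌) (τ : ⦋l⦌ ⟶ ⦋1⦌) : ac A γ (hv.cyl x g τ) = hv.cyl x (γ ≫ g) (γ ≫ τ) := by
  -- both candidates agree on anything factoring through lower degrees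
  have low : ∀ (a : A.obj (op ⦋l⦌)), (k < n ∨ l < n ∨ ¬ Function.Injective γ.toOrderHom) →
      ac A γ (hv.sv a) = ac A γ a := by
    intro a h
    rcases h with h | h | h
    · rw [hv.ac_sv, hv.sv_lo h]
    · rw [hv.sv_lo h]
    · cases k with
      | zero => exact absurd (fun a b _ => Subsingleton.elim (α := Fin 1) a b) h
      | succ p =>
        obtain ⟨i, θ, rfl⟩ := eq_σ_comp_of_not_injective γ h
        rw [← ac_ac, ← ac_ac, hv.ac_sv θ, hv.sv_lo (Nat.lt_of_succ_le hk)]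
  by_cases hgen : k < n ∨ l < n ∨ ¬ Function.Injective γ.toOrderHom
  · have e1 : ac A γ (hv.cyl x g τ) = ac A (γ ≫ g) x := by
      unfold Special.cyl
      split_ifs
      · rw [ac_ac]
      · rw [low _ hgen, ac_ac]
    have e2 : hv.cyl x (γ ≫ g) (γ ≫ τ) = ac A (γ ≫ g) x := by
      unfold Special.cyl
      split_ifs
      · rfl
      · rw [← ac_ac, ← hv.ac_sv, low _ hgen]
    rw [e1, e2]
  · rw [not_or, not_or, not_not, not_lt, not_lt] at hgen
    obtain ⟨hk', hl', hinj⟩ := hgen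
    obtain rfl : k = l := by omega
    haveI : Mono γ := SimplexCategory.mono_iff_injective.2 hinj
    rw [SimplexCategory.eq_id_of_mono γ, ac_id, Category.id_comp, Category.id_comp]

/-- The components of the homotopy. -/
noncomputable def Special.hh {m : ℕ} (i : Fin (m + 1)) (x : A.obj (op ⦋m⦌)) : A.obj (op ⦋m + 1⦌) :=
  (hv.cA (m + 1) (fun _ _ f => hv.cyl x (f ≫ σ i) (f ≫ thr i))
    (fun _ _ hk hl γ f => hv.cyl_nat x hk hl γ (f ≫ σ i) (f ≫ thr i))).exists.choose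

lemma Special.ac_hh {m : ℕ} (i : Fin (m + 1)) (x : A.obj (op ⦋m⦌)) (k : ℕ) (hk : k ≤ n) (f : ⦋k⦌ ⟶ ⦋m + 1⦌) :
    ac A f (hv.hh i x) = hv.cyl x (f ≫ σ i) (f ≫ thr i) :=
  (hv.cA (m + 1) (fun _ _ f => hv.cyl x (f ≫ σ i) (f ≫ thr i))
    (fun _ _ hk hl γ f => hv.cyl_nat x hk hl γ (f ≫ σ i) (f ≫ thr i))).exists.choose_spec k hk f

lemma Special.cyl_zero {m : ℕ} (x : A.obj (op ⦋m⦌)) {k : ℕ} (g : ⦋k⦌ ⟶ ⦋m⦌) :
    hv.cyl x g (SimplexCategory.const ⦋k⦌ ⦋1⦌ 0) = ac A g x := if_pos rfl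

lemma Special.cyl_one {m : ℕ} (x : A.obj (op ⦋m⦌)) {k : ℕ} (g : ⦋k⦌ ⟶ ⦋m⦌) :
    hv.cyl x g (SimplexCategory.const ⦋k⦌ ⦋1⦌ 1) = ac A g (hv.sv x) := by
  refine (if_neg fun h => ?_).trans (hv.ac_sv g x).symm
  exact absurd (congrArg (fun f : ⦋k⦌ ⟶ ⦋1⦌ => f.toOrderHom 0) h) (by simp)

lemma Special.hh_map_map {m m' : ℕ} (i : Fin (m + 1)) (γ : ⦋m' + 1⦌ ⟶ ⦋m + 1⦌) (j : Fin (m' + 1))
    (g : ⦋m'⦌ ⟶ ⦋m⦌) (h1 : γ ≫ σ i = σ j ≫ g) (h2 : γ ≫ thr i = thr j) (x : A.obj (op ⦋m⦌)) :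
    ac A γ (hv.hh i x) = hv.hh j (ac A g x) := by
  refine hv.cA.ext fun k hk f => ?_
  rw [ac_ac, hv.ac_hh i x k hk, hv.ac_hh j _ k hk, Category.assoc, Category.assoc, h1, h2]
  unfold Special.cyl
  simp only [ac_ac, Category.assoc]

lemma Special.hh_end {m : ℕ} (i : Fin (m + 1)) (γ : ⦋m⦌ ⟶ ⦋m + 1⦌) (h1 : γ ≫ σ i = 𝟙 _) (x : A.obj (op ⦋m⦌)) :
    (γ ≫ thr i = SimplexCategory.const ⦋m⦌ ⦋1⦌ 0 → ac A γ (hv.hh i x) = x) ∧
    (γ ≫ thr i = SimplexCategory.const ⦋m⦌ ⦋1⦌ 1 → ac A γ (hv.hh i x) = hv.sv x) := by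
  constructor <;> intro h2 <;> refine hv.cA.ext fun k hk f => ?_
  · rw [ac_ac, hv.ac_hh i x k hk, Category.assoc, Category.assoc, h1, h2, Category.comp_id, const_comp']
    exact hv.cyl_zero x f
  · rw [ac_ac, hv.ac_hh i x k hk, Category.assoc, Category.assoc, h1, h2, Category.comp_id, const_comp']
    exact hv.cyl_one x f

/-- `s ∘ v` as a morphism. -/
noncomputable def Special.svHom : A ⟶ A where
  app Δ := TypeCat.ofHom fun x => hv.sv (m := Δ.unop.len) x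
  naturality Δ Δ' g := by
    induction Δ using Opposite.rec with | _ Δ
    induction Δ' using Opposite.rec with | _ Δ'
    induction Δ using SimplexCategory.rec with | _ m
    induction Δ' using SimplexCategory.rec with | _ m'
    exact tyExt _ _ fun x => (hv.ac_sv g.unop x).symm

/-- The homotopy between the identity and `s ∘ v`. -/
noncomputable def Special.homotopy : SimplicialObject.Homotopy (𝟙 A) hv.svHom where
  h i := TypeCat.ofHom (hv.hh i)
  h_zero_comp_δ_zero m := tyExt _ _ fun x => (hv.hh_end 0 (δ 0) δ_comp_σ_self x).2 (thr_ext fun x => by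
    show (if ((0 : Fin (m + 2)).succAbove x).val ≤ 0 then (0 : Fin 2) else 1) = 1
    rw [if_neg]
    simp)
  h_last_comp_δ_last m := tyExt _ _ fun x => (hv.hh_end (Fin.last m) (δ (Fin.last (m + 1)))
    (δ_comp_σ_succ' (Fin.succ_last m).symm) x).1 (thr_ext fun x => by
    show (if ((Fin.last (m + 1)).succAbove x).val ≤ (Fin.last m).val then (0 : Fin 2) else 1) = 0
    rw [if_pos]
    rw [succAbove_val]
    have := x.isLt
    simp only [Fin.val_last]
    split_ifs; omega)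
  h_succ_comp_δ_castSucc_of_lt {m} i j hij := tyExt _ _ fun x =>
    hv.hh_map_map j.succ (δ i.castSucc) j (δ i) (δ_comp_σ_of_le hij) (thr_ext fun x => by
      show (if (i.castSucc.succAbove x).val ≤ j.succ.val then (0 : Fin 2) else 1) = if x.val ≤ j.val then 0 else 1
      have : i.val ≤ j.val := hij
      rw [succAbove_val]
      simp only [Fin.val_castSucc, Fin.val_succ]
      split_ifs <;> first | rfl | omega) x
  h_succ_comp_δ_castSucc_succ {m} j := tyExt _ _ fun x => by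
    refine hv.cA.ext fun k hk f => ?_
    show ac A f (ac A (δ j.castSucc.succ) (hv.hh j.succ x)) = ac A f (ac A (δ j.castSucc.succ) (hv.hh j.castSucc x))
    rw [ac_ac, ac_ac, hv.ac_hh _ x k hk, hv.ac_hh _ x k hk]
    simp only [Category.assoc]
    congr 2
    · rw [δ_comp_σ_succ]
      exact δ_comp_σ_self' (Fin.castSucc_succ j).symm
    · refine thr_ext fun x => ?_
      show (if (j.castSucc.succ.succAbove x).val ≤ j.succ.val then (0 : Fin 2) else 1) =
        if (j.castSucc.succ.succAbove x).val ≤ j.castSucc.val then 0 else 1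
      rw [succAbove_val]
      simp only [Fin.val_castSucc, Fin.val_succ]
      split_ifs <;> first | rfl | omega
  h_castSucc_comp_δ_succ_of_lt {m} i j hji := tyExt _ _ fun x =>
    hv.hh_map_map j.castSucc (δ i.succ) j (δ i) (δ_comp_σ_of_gt hji) (thr_ext fun x => by
      show (if (i.succ.succAbove x).val ≤ j.castSucc.val then (0 : Fin 2) else 1) = if x.val ≤ j.val then 0 else 1
      have : j.val < i.val := hji
      rw [succAbove_val]
      simp only [Fin.val_castSucc, Fin.val_succ]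
      split_ifs <;> first | rfl | omega) x
  h_comp_σ_castSucc_of_le {m} i j hij := tyExt _ _ fun x =>
    hv.hh_map_map j (σ i.castSucc) j.succ (σ i) (σ_comp_σ hij) (thr_ext fun x => by
      show (if (i.castSucc.predAbove x).val ≤ j.val then (0 : Fin 2) else 1) = if x.val ≤ j.succ.val then 0 else 1
      have : i.val ≤ j.val := hij
      rw [predAbove_val]
      simp only [Fin.val_castSucc, Fin.val_succ]
      split_ifs <;> first | rfl | omega) x
  h_comp_σ_succ_of_lt {m} i j hji := tyExt _ _ fun x =>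
    hv.hh_map_map j (σ i.succ) j.castSucc (σ i) (σ_comp_σ hji).symm (thr_ext fun x => by
      show (if (i.succ.predAbove x).val ≤ j.val then (0 : Fin 2) else 1) = if x.val ≤ j.castSucc.val then 0 else 1
      have : j.val ≤ i.val := hji
      rw [predAbove_val]
      simp only [Fin.val_castSucc, Fin.val_succ]
      split_ifs <;> first | rfl | omega) x

end Groth.Agent.H15Site.HyperBuild
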