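import Groth.Agent.H15Site.HyperBuild.Special
import Groth.Agent.H15Site.HUBasic
import Mathlib.AlgebraicTopology.SimplicialObject.ChainHomotopy
import Mathlib.AlgebraicTopology.SimplicialObject.Coskeletal
import Mathlib.Algebra.Category.Grp.Adjunctions

/-!
# Special morphisms of simplicial presheaves induce isomorphisms on homology
-/

set_option autoImplicit false
set_option linter.style.haveILetI false
set_option linter.unusedSectionVars false
set_option backward.isDefEq.respectTransparency false

universe u v w

open CategoryTheory CategoryTheory.Limits Opposite SimplexCategory AlgebraicTopology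
open scoped Simplicial

namespace Groth.Agent.H15Site.HyperBuild

attribute [local instance 10000] SiteInst.hasSheafifySite SiteInst.hasWeakSheafifySite
  SiteInst.hasExtSite SiteInst.enoughInjSite

/-- A coskeletal simplicial object is coskeletal on elements. -/
theorem coskEl_of_isIso {E : Type v} [Category.{w} E] (n : ℕ)
    [∀ (F : (SimplexCategory.Truncated n)ᵒᵖ ⥤ E), (SimplexCategory.Truncated.inclusion n).op.HasRightKanExtension F]
    (X : SimplicialObject E) [IsIso ((SimplicialObject.coskAdj n).unit.app X)] (F : E ⥤ Type u)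
    [∀ Δ : SimplexCategoryᵒᵖ, HasLimitsOfShape (StructuredArrow Δ (SimplexCategory.Truncated.inclusion n).op) E]
    [∀ Δ : SimplexCategoryᵒᵖ,
      PreservesLimitsOfShape (StructuredArrow Δ (SimplexCategory.Truncated.inclusion n).op) F] :
    CoskEl n (X ⋙ F) := by
  intro m t ht
  haveI : X.IsCoskeletal n := (SimplicialObject.isCoskeletal_iff_isIso X n).2 inferInstance
  have hl := Functor.isPointwiseRightKanExtensionOfIsRightKanExtension
    (L := (SimplexCategory.Truncated.inclusion n).op) (F := (SimplexCategory.Truncated.inclusion n).op ⋙ X)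
    X (𝟙 _) (op ⦋m⦌)
  have hF := isLimitOfPreserves F hl
  let s : ∀ g : StructuredArrow (op ⦋m⦌) (SimplexCategory.Truncated.inclusion n).op,
      F.obj (X.obj ((SimplexCategory.Truncated.inclusion n).op.obj g.right)) := fun g =>
    t g.right.unop.obj.len g.right.unop.property g.hom.unop
  obtain ⟨x, hx, huniq⟩ := (Types.isLimit_iff _).1 ⟨hF⟩ s (fun {g g'} φ => by
    refine (ht _ _ g'.right.unop.property g.right.unop.property φ.right.unop.hom g.hom.unop).trans ?_
    exact congrArg (t _ g'.right.unop.property) (congrArg Quiver.Hom.unop (StructuredArrow.w φ)))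
  have hπ : ∀ (g : StructuredArrow (op ⦋m⦌) (SimplexCategory.Truncated.inclusion n).op) (y : F.obj (X.obj (op ⦋m⦌))),
      F.map (X.map g.hom ≫ 𝟙 _) y = (X ⋙ F).map g.hom y := fun g y =>
    ConcreteCategory.congr_hom (congrArg F.map (Category.comp_id _)) y
  refine ⟨x, fun k hk f => ?_, fun y hy => huniq y fun g => ?_⟩
  · let Yk : SimplexCategory.Truncated n := ⟨⦋k⦌, hk⟩
    let fk : op ⦋m⦌ ⟶ (SimplexCategory.Truncated.inclusion n).op.obj (op Yk) := f.op
    let g : StructuredArrow (op ⦋m⦌) (SimplexCategory.Truncated.inclusion n).op := StructuredArrow.mk fk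
    exact (hπ g x).symm.trans (hx g)
  · exact (hπ g y).trans (hy g.right.unop.obj.len g.right.unop.property g.hom.unop)

variable {C : Type u} [SmallCategory C] {J : GrothendieckTopology C}

section Homology

/-- Homology of presheaves is computed objectwise. -/
theorem isIso_homologyMap_of_eval {P Q : ChainComplex (Cᵒᵖ ⥤ AddCommGrpCat.{u}) ℕ} (φ : P ⟶ Q) (q : ℕ)
    (h : ∀ U, IsIso (HomologicalComplex.homologyMap
      ((((evaluation Cᵒᵖ AddCommGrpCat.{u}).obj U).mapHomologicalComplex _).map φ) q)) :
    IsIso (HomologicalComplex.homologyMap φ q) := by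
  haveI : ∀ U, IsIso ((HomologicalComplex.homologyMap φ q).app U) := fun U => by
    let ev := (evaluation Cᵒᵖ AddCommGrpCat.{u}).obj U
    let ψ := (HomologicalComplex.shortComplexFunctor _ _ q).map φ
    haveI : IsIso (ShortComplex.homologyMap (ev.mapShortComplex.map ψ)) := h U
    have e := ShortComplex.mapHomologyIso_hom_naturality (F := ev) ψ
    haveI : IsIso (((HomologicalComplex.sc P q).mapHomologyIso ev).hom ≫ ev.map (ShortComplex.homologyMap ψ)) := by
      rw [← e]
      infer_instance
    have h2 : IsIso (ev.map (ShortComplex.homologyMap ψ)) :=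
      IsIso.of_isIso_comp_left ((HomologicalComplex.sc P q).mapHomologyIso ev).hom _
    exact h2
  exact NatIso.isIso_of_isIso_app _

end Homology

section Set

variable {A R : SimplicialObject (Type u)} {p : A ⟶ R} {n : ℕ} (hp : Special p n)
  (hsurj : ∀ Δ, Function.Surjective (p.app Δ))
include hp hsurj

/-- A special surjection induces an isomorphism on the homology of the free complexes. -/
theorem isIso_homology_free (q : ℕ) :
    IsIso (HomologicalComplex.homologyMap ((alternatingFaceMapComplex AddCommGrpCat.{u}).map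
      (Functor.whiskerRight p AddCommGrpCat.free.{u})) q) := by
  have hgood : ∀ {m : ℕ} (y : R.obj (op ⦋m⦌)), Good p n y := fun y f => hsurj _ _
  let sec : R ⟶ A :=
    { app := fun Δ => TypeCat.ofHom fun y => hp.s (m := Δ.unop.len) y (hgood y)
      naturality := fun Δ Δ' g => by
        induction Δ using Opposite.rec with | _ Δ
        induction Δ' using Opposite.rec with | _ Δ'
        induction Δ using SimplexCategory.rec with | _ m
        induction Δ' using SimplexCategory.rec with | _ m'
        exact tyExt _ _ fun y => (hp.s_ac y (hgood y) g.unop).symm }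
  let H : ∀ {X Y : SimplicialObject (Type u)}, (X ⟶ Y) →
      (((alternatingFaceMapComplex AddCommGrpCat.{u}).obj (X ⋙ AddCommGrpCat.free.{u})).homology q ⟶
        ((alternatingFaceMapComplex AddCommGrpCat.{u}).obj (Y ⋙ AddCommGrpCat.free.{u})).homology q) :=
    fun f => HomologicalComplex.homologyMap ((alternatingFaceMapComplex AddCommGrpCat.{u}).map
      (Functor.whiskerRight f AddCommGrpCat.free.{u})) q
  have hcomp : ∀ {X Y Z : SimplicialObject (Type u)} (f : X ⟶ Y) (g : Y ⟶ Z), H (f ≫ g) = H f ≫ H g := by
    intro X Y Z f g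
    simp only [H, Functor.whiskerRight_comp, Functor.map_comp, HomologicalComplex.homologyMap_comp]
  have hid : ∀ X : SimplicialObject (Type u), H (𝟙 X) = 𝟙 _ := by
    intro X
    simp only [H, Functor.whiskerRight_id', CategoryTheory.Functor.map_id, HomologicalComplex.homologyMap_id]
  have h1 : sec ≫ p = 𝟙 R := by
    refine NatTrans.ext (funext fun Δ => ?_)
    induction Δ using Opposite.rec with | _ Δ
    induction Δ using SimplexCategory.rec with | _ m
    exact tyExt _ _ fun y => hp.vv_s y (hgood y)
  have h2 : p ≫ sec = hp.svHom := by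
    refine NatTrans.ext (funext fun Δ => ?_)
    induction Δ using Opposite.rec with | _ Δ
    induction Δ using SimplexCategory.rec with | _ m
    exact tyExt _ _ fun x => rfl
  have h3 : H hp.svHom = H (𝟙 A) :=
    ((SimplicialObject.Homotopy.toChainHomotopy
      (hp.homotopy.whiskerRight AddCommGrpCat.free.{u})).homologyMap_eq q).symm
  change IsIso (H p)
  exact ⟨H sec, by rw [← hcomp, h2, h3, hid], by rw [← hcomp, h1, hid]⟩

end Set

section Presheaf

variable {A B : SimplicialObject (Cᵒᵖ ⥤ Type u)} (v : A ⟶ B)

/-- The image. -/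
def imgS : SimplicialObject (Cᵒᵖ ⥤ Type u) where
  obj Δ :=
    { obj := fun U => {y : (B.obj Δ).obj U // ∃ x, (v.app Δ).app U x = y}
      map := fun {U V} g => TypeCat.ofHom fun y => ⟨(B.obj Δ).map g y.1, by
        obtain ⟨x, hx⟩ := y.2
        refine ⟨(A.obj Δ).map g x, ?_⟩
        refine (ConcreteCategory.congr_hom ((v.app Δ).naturality g) x).trans ?_
        exact congrArg ((B.obj Δ).map g) hx⟩
      map_id := fun U => tyExt _ _ fun y => by
        refine Subtype.ext ?_
        exact ConcreteCategory.congr_hom ((B.obj Δ).map_id U) y.1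
      map_comp := fun g h => tyExt _ _ fun y => by
        refine Subtype.ext ?_
        exact ConcreteCategory.congr_hom ((B.obj Δ).map_comp g h) y.1 }
  map g :=
    { app := fun U => TypeCat.ofHom fun y => ⟨(B.map g).app U y.1, by
        obtain ⟨x, hx⟩ := y.2
        refine ⟨(A.map g).app U x, ?_⟩
        refine (ConcreteCategory.congr_hom (congr_app (v.naturality g) U) x).trans ?_
        exact congrArg ((B.map g).app U) hx⟩
      naturality := fun U V h => tyExt _ _ fun y => by
        refine Subtype.ext ?_
        exact ConcreteCategory.congr_hom ((B.map g).naturality h) y.1 }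
  map_id Δ := NatTrans.ext (funext fun U => tyExt _ _ fun y => by
    refine Subtype.ext ?_
    exact ConcreteCategory.congr_hom (congr_app (B.map_id Δ) U) y.1)
  map_comp g h := NatTrans.ext (funext fun U => tyExt _ _ fun y => by
    refine Subtype.ext ?_
    exact ConcreteCategory.congr_hom (congr_app (B.map_comp g h) U) y.1)

/-- To the image. -/
def toImg : A ⟶ imgS v where
  app Δ :=
    { app := fun U => TypeCat.ofHom fun x => ⟨(v.app Δ).app U x, x, rfl⟩
      naturality := fun U V h => tyExt _ _ fun x => by
        refine Subtype.ext ?_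
        exact ConcreteCategory.congr_hom ((v.app Δ).naturality h) x }
  naturality Δ Δ' g := NatTrans.ext (funext fun U => tyExt _ _ fun x => by
    refine Subtype.ext ?_
    exact ConcreteCategory.congr_hom (congr_app (v.naturality g) U) x)

/-- The inclusion of the image. -/
def imgι : imgS v ⟶ B where
  app _ :=
    { app := fun _ => TypeCat.ofHom Subtype.val
      naturality := fun _ _ _ => tyExt _ _ fun _ => rfl }
  naturality _ _ _ := NatTrans.ext (funext fun _ => tyExt _ _ fun _ => rfl)

lemma toImg_imgι : toImg v ≫ imgι v = v := rfl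

variable {v} {n : ℕ} (h1 : ∀ k : ℕ, k < n → IsIso (v.app (op ⦋k⦌)))
  (h2 : Presheaf.IsLocallySurjective J (v.app (op ⦋n⦌)))
  (hA : ∀ U : Cᵒᵖ, CoskEl n (A ⋙ (evaluation Cᵒᵖ (Type u)).obj U))
  (hB : ∀ U : Cᵒᵖ, CoskEl n (B ⋙ (evaluation Cᵒᵖ (Type u)).obj U))
include h1 hA hB

theorem special_eval (U : Cᵒᵖ) :
    Special (Functor.whiskerRight v ((evaluation Cᵒᵖ (Type u)).obj U)) n where
  lo k hk := by
    haveI := h1 k hk
    exact (isIso_iff_bijective _).1 (inferInstanceAs (IsIso ((v.app (op ⦋k⦌)).app U)))
  cA := hA U
  cB := hB U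

include h2 in
/-- Every degree is locally surjective. -/
theorem isLocallySurjective_special (m : ℕ) : Presheaf.IsLocallySurjective J (v.app (op ⦋m⦌)) := ⟨fun {U} y => by
  letI := Fintype.ofFinite (⦋n⦌ ⟶ ⦋m⦌)
  obtain ⟨T, hT, hT'⟩ := HyperFill.exists_cover_finset (J := J) (U := U) (Finset.univ : Finset (⦋n⦌ ⟶ ⦋m⦌))
    (fun f => Presheaf.imageSieve (v.app (op ⦋n⦌)) ((B.map f.op).app (op U) y))
    (fun f _ => Presheaf.imageSieve_mem J _ _)
  refine J.superset_covering (fun V g hg => ?_) hT
  have hgood : Good (Functor.whiskerRight v ((evaluation Cᵒᵖ (Type u)).obj (op V))) n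
      ((B.obj (op ⦋m⦌)).map g.op y) := fun f => by
    obtain ⟨x, hx⟩ := hT' g hg f (Finset.mem_univ f)
    exact ⟨x, hx.trans (ConcreteCategory.congr_hom ((B.map f.op).naturality g.op) y).symm⟩
  exact ⟨(special_eval h1 hA hB (op V)).s _ hgood, (special_eval h1 hA hB (op V)).vv_s _ hgood⟩⟩

theorem special_toImg (U : Cᵒᵖ) :
    Special (Functor.whiskerRight (toImg v) ((evaluation Cᵒᵖ (Type u)).obj U)) n where
  lo k hk := by
    have hb := (special_eval h1 hA hB U).lo k hk
    exact ⟨fun a b e => hb.1 (congrArg Subtype.val e), fun y => ⟨y.2.choose, Subtype.ext y.2.choose_spec⟩⟩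
  cA := hA U
  cB := by
    intro m t ht
    have hS := special_eval h1 hA hB U
    obtain ⟨x, hx, huniq⟩ := hB U m (fun k hk f => (t k hk f).1)
      (fun k l hk hl g f => congrArg Subtype.val (ht k l hk hl g f))
    have hgood : Good (Functor.whiskerRight v ((evaluation Cᵒᵖ (Type u)).obj U)) n x := fun f => by
      obtain ⟨a, ha⟩ := (t n le_rfl f).2
      exact ⟨a, ha.trans (hx n le_rfl f).symm⟩
    refine ⟨⟨x, hS.s x hgood, hS.vv_s x hgood⟩, fun k hk f => Subtype.ext (hx k hk f), fun y hy => ?_⟩
    exact Subtype.ext (huniq y.1 fun k hk f => congrArg Subtype.val (hy k hk f))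

include h2 in
/-- Special morphisms induce isomorphisms on the homology of the free complexes. -/
theorem isIso_homology_special (q : ℕ) :
    IsIso (HomologicalComplex.homologyMap
      ((alternatingFaceMapComplex (Sheaf J AddCommGrpCat.{u})).map
        (Functor.whiskerRight v ((Functor.whiskeringRight Cᵒᵖ (Type u) AddCommGrpCat.{u}).obj AddCommGrpCat.free.{u} ⋙
          presheafToSheaf J AddCommGrpCat.{u}))) q) := by
  let W := (Functor.whiskeringRight Cᵒᵖ (Type u) AddCommGrpCat.{u}).obj AddCommGrpCat.free.{u}
  let Sh := presheafToSheaf J AddCommGrpCat.{u}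
  haveI hι : IsIso (Functor.whiskerRight (imgι v) (W ⋙ Sh)) := by
    haveI : ∀ Δ, IsIso ((Functor.whiskerRight (imgι v) (W ⋙ Sh)).app Δ) := fun Δ => by
      haveI : J.PreservesSheafification AddCommGrpCat.free.{u} :=
        CategoryTheory.Sheaf.preservesSheafification_of_adjunction J AddCommGrpCat.adj
      refine (J.W_iff _).1 (J.W_of_preservesSheafification _ _ ?_)
      rw [J.W_iff_isLocallyBijective]
      induction Δ using Opposite.rec with | _ Δ
      induction Δ using SimplexCategory.rec with | _ m
      refine ⟨Presheaf.isLocallyInjective_of_injective J _ fun U => Subtype.val_injective, ⟨fun {U} y => ?_⟩⟩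
      haveI := isLocallySurjective_special h1 h2 hA hB m
      refine J.superset_covering (fun V g hg => ?_) (Presheaf.imageSieve_mem J (v.app (op ⦋m⦌)) y)
      obtain ⟨x, hx⟩ := hg
      exact ⟨⟨_, x, rfl⟩, hx⟩
    exact NatIso.isIso_of_isIso_app _
  haveI hto : IsIso (HomologicalComplex.homologyMap
      ((alternatingFaceMapComplex (Cᵒᵖ ⥤ AddCommGrpCat.{u})).map (Functor.whiskerRight (toImg v) W)) q) := by
    refine isIso_homologyMap_of_eval _ q fun U => ?_
    let ev := (evaluation Cᵒᵖ AddCommGrpCat.{u}).obj U
    have e := Functor.congr_hom (map_alternatingFaceMapComplex ev) (Functor.whiskerRight (toImg v) W)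
    simp only [Functor.comp_map] at e
    rw [e, HomologicalComplex.homologyMap_comp, HomologicalComplex.homologyMap_comp]
    haveI : IsIso (HomologicalComplex.homologyMap ((alternatingFaceMapComplex AddCommGrpCat.{u}).map
        (((SimplicialObject.whiskering _ _).obj ev).map (Functor.whiskerRight (toImg v) W))) q) :=
      isIso_homology_free (special_toImg h1 hA hB U) (fun Δ y => ⟨y.2.choose, Subtype.ext y.2.choose_spec⟩) q
    infer_instance
  have key : IsIso (HomologicalComplex.homologyMap
      ((alternatingFaceMapComplex (Sheaf J AddCommGrpCat.{u})).map (Functor.whiskerRight (toImg v) (W ⋙ Sh))) q) := by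
    have e := Functor.congr_hom (map_alternatingFaceMapComplex Sh) (Functor.whiskerRight (toImg v) W)
    simp only [Functor.comp_map] at e
    have h : IsIso (HomologicalComplex.homologyMap ((Sh.mapHomologicalComplex _).map
        ((alternatingFaceMapComplex (Cᵒᵖ ⥤ AddCommGrpCat.{u})).map (Functor.whiskerRight (toImg v) W))) q) := by
      let ψ := (HomologicalComplex.shortComplexFunctor _ _ q).map
        ((alternatingFaceMapComplex (Cᵒᵖ ⥤ AddCommGrpCat.{u})).map (Functor.whiskerRight (toImg v) W))
      haveI : IsIso (ShortComplex.homologyMap ψ) := hto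
      have e' := ShortComplex.mapHomologyIso_hom_naturality (F := Sh) ψ
      haveI : IsIso (ShortComplex.homologyMap (Sh.mapShortComplex.map ψ)) := by
        rw [← IsIso.eq_comp_inv] at e'
        rw [e']
        infer_instance
      exact this
    rw [e, HomologicalComplex.homologyMap_comp, HomologicalComplex.homologyMap_comp] at h
    simp only [isIso_comp_left_iff, isIso_comp_right_iff] at h
    exact h
  haveI := key
  have e : Functor.whiskerRight v (W ⋙ Sh) =
      Functor.whiskerRight (toImg v) (W ⋙ Sh) ≫ Functor.whiskerRight (imgι v) (W ⋙ Sh) := by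
    rw [← Functor.whiskerRight_comp, toImg_imgι]
  show IsIso (HomologicalComplex.homologyMap ((alternatingFaceMapComplex _).map (Functor.whiskerRight v (W ⋙ Sh))) q)
  rw [e, Functor.map_comp, HomologicalComplex.homologyMap_comp]
  infer_instance

end Presheaf

end Groth.Agent.H15Site.HyperBuild
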