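import Groth.Agent.H15Site.HyperBuild.CechRes
import Groth.Agent.H15Site.HyperAcyclic
import Groth.Agent.H15Site.HUBasic

/-!
# Cohomology vanishes iff Čech classes on hypercoverings die
-/

set_option autoImplicit false
set_option linter.style.haveILetI false
set_option linter.unusedSectionVars false
set_option backward.isDefEq.respectTransparency false

universe u

open CategoryTheory CategoryTheory.Limits Opposite
open scoped Simplicial

namespace Groth.Agent.H15Site.HyperBuild

attribute [local instance 10000] SiteInst.hasSheafifySite SiteInst.hasWeakSheafifySite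
  SiteInst.hasExtSite SiteInst.enoughInjSite

variable {C : Type u} [SmallCategory C] [HasPullbacks C] (J : GrothendieckTopology C) (X : C)
  [∀ (n : ℕ) (F : (SimplexCategory.Truncated n)ᵒᵖ ⥤ FormalCoproduct.{u} (Over X)),
      (SimplexCategory.Truncated.inclusion n).op.HasRightKanExtension F]

variable {J} in
theorem die_zero_iff (F : Sheaf J AddCommGrpCat.{u}) :
    Die X J F.obj 0 ↔ Subsingleton (F.obj.obj (op X)) := by
  constructor
  · intro h
    have hK := isHypercovering_full (J := J) (X := X) (ptS (Over X)) fill_ptS covers_univ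
    refine subsingleton_of_forall_eq 0 fun x => ?_
    obtain ⟨L, f, hL, hf⟩ := h _ hK (resH _ F.obj x)
    rw [cechHMap_resH] at hf
    exact (resH_bijective F hL).1 (hf.trans (map_zero _).symm)
  · intro h K hK ξ
    obtain ⟨x, rfl⟩ := (resH_bijective F hK).2 ξ
    exact ⟨K, 𝟙 K, hK, by rw [cechHMap_resH, Subsingleton.elim x 0, map_zero]⟩

/-- The presheaf cokernel of the embedding into an injective. -/
noncomputable abbrev preSeq (F : Sheaf J AddCommGrpCat.{u}) : ShortComplex (Cᵒᵖ ⥤ AddCommGrpCat.{u}) :=
  ShortComplex.mk (Edge.injSeq F).f.hom (cokernel.π (Edge.injSeq F).f.hom) (cokernel.condition _)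

theorem preSeq_shortExact (F : Sheaf J AddCommGrpCat.{u}) : (preSeq J F).ShortExact :=
  { exact := ShortComplex.exact_cokernel _
    mono_f := by
      haveI := (Edge.injSeq_shortExact F).mono_f
      exact inferInstanceAs (Mono ((sheafToPresheaf J _).map (Edge.injSeq F).f))
    epi_g := inferInstanceAs (Epi (cokernel.π (Edge.injSeq F).f.hom)) }

/-- The comparison with the sheaf cokernel. -/
noncomputable abbrev preCmp (F : Sheaf J AddCommGrpCat.{u}) : (preSeq J F).X₃ ⟶ (Edge.injSeq F).X₃.obj :=
  cokernel.desc _ (Edge.injSeq F).g.hom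
    (congrArg (sheafToPresheaf J AddCommGrpCat.{u}).map (Edge.injSeq F).zero)

theorem mono_preCmp (F : Sheaf J AddCommGrpCat.{u}) : Mono (preCmp J F) := by
  haveI := (Edge.injSeq_shortExact F).mono_f
  exact ((Edge.injSeq_shortExact F).exact.map_of_mono_of_preservesKernel (sheafToPresheaf J AddCommGrpCat.{u})
    inferInstance inferInstance).mono_cokernelDesc

theorem isIso_sheafify_preCmp (F : Sheaf J AddCommGrpCat.{u}) :
    IsIso ((presheafToSheaf J AddCommGrpCat.{u}).map (preCmp J F)) := by
  let Sh := presheafToSheaf J AddCommGrpCat.{u}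
  haveI := mono_preCmp J F
  haveI : Mono (Sh.map (preCmp J F)) := inferInstance
  haveI : Epi (Edge.injSeq F).g := (Edge.injSeq_shortExact F).epi_g
  haveI : Epi (Sh.map (preCmp J F)) := by
    haveI : Epi (Sh.map (Edge.injSeq F).g.hom) := by
      let ε := (sheafificationAdjunction J AddCommGrpCat.{u}).counit
      have e : Sh.map (Edge.injSeq F).g.hom =
          (ε.app (Edge.injSeq F).X₂ ≫ (Edge.injSeq F).g) ≫ inv (ε.app (Edge.injSeq F).X₃) := by
        rw [IsIso.eq_comp_inv]
        exact ε.naturality (Edge.injSeq F).g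
      rw [e]
      infer_instance
    exact epi_of_epi_fac (f := Sh.map (preSeq J F).g)
      ((Sh.map_comp _ _).symm.trans (congrArg Sh.map (cokernel.π_desc _ _ _)))
  exact isIso_of_mono_of_epi _

theorem subsingleton_HU_iff_die (q : ℕ) :
    ∀ F : Sheaf J AddCommGrpCat.{u}, Subsingleton (CohSite.HU F q X) ↔ Die X J F.obj q := by
  induction q with
  | zero =>
    intro F
    rw [die_zero_iff]
    exact ⟨fun _ => (CechEdge.sectH0 J X F).injective.subsingleton,
      fun _ => (CechEdge.sectH0 J X F).surjective.subsingleton⟩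
  | succ q ih =>
    intro F
    let T := Edge.injSeq F
    have hT : T.ShortExact := Edge.injSeq_shortExact F
    haveI := isIso_sheafify_preCmp J F
    have hS := preSeq_shortExact J F
    have hI : ∀ (K : SimplicialObject (FormalCoproduct.{u} (Over X))), Hyper.IsHypercovering J X K →
        ∀ (p : ℕ) (x : Hyper.cechH X K T.X₂.obj (p + 1)), x = 0 := fun K hK p x =>
      (AddCommGrpCat.subsingleton_of_isZero (HyperAcyclic.isZero_cechH J X K hK T.X₂
        (fun U r => Edge.subsingleton_HU_of_injective (Injective.under F) r U) p)).elim x 0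
    have hHI : ∀ p, Subsingleton (CohSite.HU T.X₂ (p + 1) X) := fun p =>
      Edge.subsingleton_HU_of_injective (Injective.under F) p X
    cases q with
    | zero =>
      -- degree one
      have hsurj : Subsingleton (CohSite.HU F 1 X) ↔ Function.Surjective (T.g.hom.app (op X)) := by
        constructor
        · intro h s
          have : CechEdge.extδ hT X 0 (CechEdge.sectH0 J X T.X₃ s) = 0 := h.elim _ _
          obtain ⟨w, hw⟩ := Edge.exists_HUmap_g hT X 0 _ this
          obtain ⟨t, rfl⟩ := (CechEdge.sectH0 J X T.X₂).surjective w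
          exact ⟨t, (CechEdge.sectH0 J X T.X₃).injective ((Edge.sectH0_natural T.g X t).symm.trans hw)⟩
        · intro h
          refine subsingleton_of_forall_eq 0 fun z => ?_
          obtain ⟨v, rfl⟩ := Edge.exists_extδ_eq hT X 0 z ((hHI 0).elim _ _)
          obtain ⟨s, rfl⟩ := (CechEdge.sectH0 J X T.X₃).surjective v
          obtain ⟨t, rfl⟩ := h s
          rw [← Edge.sectH0_natural]
          exact Edge.extδ_HUmap_g _ X 0 _
      rw [hsurj]
      constructor
      · intro h K hK ξ
        refine ⟨K, 𝟙 K, hK, ?_⟩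
        obtain ⟨c, rfl⟩ := exact₁ hS 0 ξ (hI K hK 0 _)
        obtain ⟨s, hs⟩ := (resH_bijective T.X₃ hK).2 (hmap K (preCmp J F) 0 c)
        obtain ⟨t, ht⟩ := h s
        have hinj : c = hmap K (preSeq J F).g 0 (resH K T.X₂.obj t) := by
          haveI := mono_preCmp J F
          let S' : ShortComplex (Cᵒᵖ ⥤ AddCommGrpCat.{u}) :=
            ShortComplex.mk (preCmp J F) (cokernel.π (preCmp J F)) (cokernel.condition _)
          have hS' : S'.ShortExact :=
            { exact := ShortComplex.exact_cokernel _
              mono_f := inferInstanceAs (Mono (preCmp J F))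
              epi_g := inferInstanceAs (Epi (cokernel.π (preCmp J F))) }
          refine sub_eq_zero.1 (hmap_zero_injective hS' _ ?_)
          show hmap K (preCmp J F) 0 (c - _) = 0
          rw [map_sub, sub_eq_zero, hmap_resH, hmap_resH, ← hs, ← ht]
          exact congrArg (resH K _)
            (ConcreteCategory.congr_hom (congr_app (cokernel.π_desc (Edge.injSeq F).f.hom (Edge.injSeq F).g.hom (congrArg (sheafToPresheaf J AddCommGrpCat.{u}).map (Edge.injSeq F).zero)) (op X)) t).symm
        rw [hinj, cδ_hmap, map_zero]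
      · intro h s
        obtain ⟨K, hK⟩ : ∃ K, Hyper.IsHypercovering J X K :=
          ⟨_, isHypercovering_full (J := J) (X := X) (ptS (Over X)) fill_ptS covers_univ⟩
        haveI := mono_preCmp J F
        let S' : ShortComplex (Cᵒᵖ ⥤ AddCommGrpCat.{u}) :=
          ShortComplex.mk (preCmp J F) (cokernel.π (preCmp J F)) (cokernel.condition _)
        have hS' : S'.ShortExact :=
          { exact := ShortComplex.exact_cokernel _
            mono_f := inferInstanceAs (Mono (preCmp J F))
            epi_g := inferInstanceAs (Epi (cokernel.π (preCmp J F))) }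
        have hN : IsZero ((presheafToSheaf J AddCommGrpCat.{u}).obj S'.X₃) := by
          let Sh := presheafToSheaf J AddCommGrpCat.{u}
          refine IsZero.of_epi_eq_zero (Sh.map (cokernel.π (preCmp J F))) ?_
          rw [← cancel_epi (Sh.map (preCmp J F)), ← Sh.map_comp, cokernel.condition, comp_zero]
          exact Sh.map_zero _ _
        obtain ⟨L, f, hL, hf⟩ := die_of_sheafify_zero hN 0 K hK (hmap K S'.g 0 (resH K T.X₃.obj s))
        rw [cechHMap_hmap, cechHMap_resH] at hf
        obtain ⟨c, hc⟩ := exact₂ hS' 0 _ hf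
        obtain ⟨M, g, hM, hg⟩ := h L hL (cδ L hS 0 c)
        obtain ⟨b, hb⟩ := exact₃ hS 0 _ ((cechHMap_cδ hS g 0 c).symm.trans hg)
        obtain ⟨t, rfl⟩ := (resH_bijective T.X₂ hM).2 b
        refine ⟨t, (resH_bijective T.X₃ hM).1 ?_⟩
        have hc' : hmap M (preCmp J F) 0 (Hyper.cechHMap X g _ 0 c) = resH M T.X₃.obj s := by
          rw [← cechHMap_hmap]
          exact (congrArg (Hyper.cechHMap X g T.X₃.obj 0) hc).trans (cechHMap_resH g s)
        rw [← hc', ← hb, hmap_resH, hmap_resH]
        exact congrArg (resH M _)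
          (ConcreteCategory.congr_hom (congr_app (cokernel.π_desc (Edge.injSeq F).f.hom (Edge.injSeq F).g.hom (congrArg (sheafToPresheaf J AddCommGrpCat.{u}).map (Edge.injSeq F).zero)) (op X)) t).symm
    | succ q =>
      -- dimension shift
      have h1 : Subsingleton (CohSite.HU F (q + 1 + 1) X) ↔ Subsingleton (CohSite.HU T.X₃ (q + 1) X) := by
        constructor
        · intro h
          refine subsingleton_of_forall_eq 0 fun v => ?_
          obtain ⟨w, rfl⟩ := Edge.exists_HUmap_g hT X (q + 1) v (h.elim _ _)
          rw [(hHI q).elim w 0, map_zero]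
        · intro h
          refine subsingleton_of_forall_eq 0 fun z => ?_
          obtain ⟨v, rfl⟩ := Edge.exists_extδ_eq hT X (q + 1) z ((hHI (q + 1)).elim _ _)
          rw [h.elim v 0, map_zero]
      rw [h1, ih T.X₃, ← die_iff_of_isIso (preCmp J F) (q + 1)]
      constructor
      · intro h K hK ξ
        obtain ⟨c, rfl⟩ := exact₁ hS (q + 1) ξ (hI K hK (q + 1) _)
        obtain ⟨L, f, hL, hf⟩ := h K hK c
        exact ⟨L, f, hL, (cechHMap_cδ hS f (q + 1) c).trans ((congrArg (cδ L hS (q + 1)) hf).trans (map_zero _))⟩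
      · intro h K hK c
        obtain ⟨L, f, hL, hf⟩ := h K hK (cδ K hS (q + 1) c)
        obtain ⟨b, hb⟩ := exact₃ hS (q + 1) _ ((cechHMap_cδ hS f (q + 1) c).symm.trans hf)
        exact ⟨L, f, hL, by rw [← hb, hI L hL q b, map_zero]⟩

theorem subsingleton_HU_sheafify_iff_die (G : Cᵒᵖ ⥤ AddCommGrpCat.{u}) (q : ℕ) :
    Subsingleton (CohSite.HU ((presheafToSheaf J AddCommGrpCat.{u}).obj G) q X) ↔ Die X J G q := by
  rw [subsingleton_HU_iff_die]
  haveI : IsIso ((presheafToSheaf J AddCommGrpCat.{u}).map (toSheafify J G)) :=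
    (J.W_iff _).1 (J.W_toSheafify G)
  exact (die_iff_of_isIso (toSheafify J G) q).symm

end Groth.Agent.H15Site.HyperBuild
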